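import Cfsg.Agent.Lib.Helper9.TCData.U43P0.Main

set_option autoImplicit false
set_option maxRecDepth 1000000

namespace Cfsg.Agent.Helper9.TCData.U43P0
open Cfsg.Agent.Helper9.TC2 Cfsg.Agent.Helper9.LTC Cfsg.Agent.Helper9.LTCM Cfsg.Agent.Helper9.LTCP Cfsg.Agent.Helper9.TCData

theorem rot_src : chkRotSrcP tab relWords relLabs rotSrc = true := by decide +kernel

theorem rel_0 : relVecM 216 tab 166 340571 [Int.ofNat 34, Int.ofNat 188, Int.ofNat 91, Int.ofNat 60, Int.ofNat 50, Int.ofNat 7, Int.ofNat 173] = true := by decide +kernel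

theorem rel_1 : relVecM 216 tab 184 444709 [Int.ofNat 6, Int.ofNat 148, Int.ofNat 120, Int.ofNat 99, Int.ofNat 72, Int.ofNat 132, Int.ofNat 132] = true := by decide +kernel

theorem rel_2 : relVecM 216 tab 184 392902 [Int.ofNat 213, Int.ofNat 109, Int.ofNat 174, Int.ofNat 120, Int.ofNat 22, Int.ofNat 194, Int.ofNat 2] = true := by decide +kernel

theorem rel_3 : relVecM 216 tab 164 312456 [Int.ofNat 108, Int.ofNat 203, Int.ofNat 21, Int.ofNat 17, Int.ofNat 73, Int.ofNat 63, Int.ofNat 85] = true := by decide +kernel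

theorem rel_4 : relVecM 216 tab 166 351023 [Int.ofNat 140, Int.ofNat 52, Int.ofNat 25, Int.ofNat 121, Int.ofNat 19, Int.ofNat 75, Int.ofNat 33] = true := by decide +kernel

theorem rel_5 : relVecM 216 tab 195 112145 [Int.ofNat 183, Int.ofNat 205, Int.ofNat 127, Int.ofNat 100, Int.ofNat 191, Int.ofNat 16, Int.ofNat 184] = true := by decide +kernel

theorem rel_6 : relVecM 216 tab 185 304365 [Int.ofNat 34, Int.ofNat 90, Int.ofNat 66, Int.ofNat 60, Int.ofNat 159, Int.ofNat 191, Int.ofNat 101] = true := by decide +kernel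

/-- The relation vectors. -/
def rhos : List (List ℤ) := [[Int.ofNat 34, Int.ofNat 188, Int.ofNat 91, Int.ofNat 60, Int.ofNat 50, Int.ofNat 7, Int.ofNat 173],
  [Int.ofNat 6, Int.ofNat 148, Int.ofNat 120, Int.ofNat 99, Int.ofNat 72, Int.ofNat 132, Int.ofNat 132],
  [Int.ofNat 213, Int.ofNat 109, Int.ofNat 174, Int.ofNat 120, Int.ofNat 22, Int.ofNat 194, Int.ofNat 2],
  [Int.ofNat 108, Int.ofNat 203, Int.ofNat 21, Int.ofNat 17, Int.ofNat 73, Int.ofNat 63, Int.ofNat 85],
  [Int.ofNat 140, Int.ofNat 52, Int.ofNat 25, Int.ofNat 121, Int.ofNat 19, Int.ofNat 75, Int.ofNat 33],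
  [Int.ofNat 183, Int.ofNat 205, Int.ofNat 127, Int.ofNat 100, Int.ofNat 191, Int.ofNat 16, Int.ofNat 184],
  [Int.ofNat 34, Int.ofNat 90, Int.ofNat 66, Int.ofNat 60, Int.ofNat 159, Int.ofNat 191, Int.ofNat 101]]

/-- Every relation vector is the relation of a closed path. -/
theorem rel_all : ∀ ρ ∈ rhos, ∃ i s, s < tab.n ∧ relVecM 216 tab i s ρ = true := by
  intro ρ hρ
  simp only [rhos, List.mem_cons, List.not_mem_nil, or_false] at hρ
  rcases hρ with rfl | rfl | rfl | rfl | rfl | rfl | rfl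
  · exact ⟨_, _, by decide +kernel, rel_0⟩
  · exact ⟨_, _, by decide +kernel, rel_1⟩
  · exact ⟨_, _, by decide +kernel, rel_2⟩
  · exact ⟨_, _, by decide +kernel, rel_3⟩
  · exact ⟨_, _, by decide +kernel, rel_4⟩
  · exact ⟨_, _, by decide +kernel, rel_5⟩
  · exact ⟨_, _, by decide +kernel, rel_6⟩

end Cfsg.Agent.Helper9.TCData.U43P0
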