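import Cfsg.Agent.Lib.Helper9.TCData.U43P0.Main

set_option autoImplicit false
set_option maxRecDepth 1000000

namespace Cfsg.Agent.Helper9.TCData.U43P0
open Cfsg.Agent.Helper9.TC2 Cfsg.Agent.Helper9.LTC Cfsg.Agent.Helper9.LTCM Cfsg.Agent.Helper9.LTCP Cfsg.Agent.Helper9.TCData

theorem e1_319488 : allRange 319488 4096 (fun x => chkEntP ptab 1 x) = true := by decide +kernel

theorem e1_323584 : allRange 323584 4096 (fun x => chkEntP ptab 1 x) = true := by decide +kernel

theorem e1_327680 : allRange 327680 4096 (fun x => chkEntP ptab 1 x) = true := by decide +kernel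

theorem e1_331776 : allRange 331776 4096 (fun x => chkEntP ptab 1 x) = true := by decide +kernel

theorem e1_335872 : allRange 335872 4096 (fun x => chkEntP ptab 1 x) = true := by decide +kernel

theorem e1_339968 : allRange 339968 4096 (fun x => chkEntP ptab 1 x) = true := by decide +kernel

theorem e1_344064 : allRange 344064 4096 (fun x => chkEntP ptab 1 x) = true := by decide +kernel

theorem e1_348160 : allRange 348160 4096 (fun x => chkEntP ptab 1 x) = true := by decide +kernel

end Cfsg.Agent.Helper9.TCData.U43P0
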