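import Cfsg.Agent.Lib.Helper9.TCData.U43P0.Main

set_option autoImplicit false
set_option maxRecDepth 1000000

namespace Cfsg.Agent.Helper9.TCData.U43P0
open Cfsg.Agent.Helper9.TC2 Cfsg.Agent.Helper9.LTC Cfsg.Agent.Helper9.LTCM Cfsg.Agent.Helper9.LTCP Cfsg.Agent.Helper9.TCData

theorem e3_106496 : allRange 106496 4096 (fun x => chkEntP ptab 3 x) = true := by decide +kernel

theorem e3_110592 : allRange 110592 4096 (fun x => chkEntP ptab 3 x) = true := by decide +kernel

theorem e3_114688 : allRange 114688 4096 (fun x => chkEntP ptab 3 x) = true := by decide +kernel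

theorem e3_118784 : allRange 118784 4096 (fun x => chkEntP ptab 3 x) = true := by decide +kernel

theorem e3_122880 : allRange 122880 4096 (fun x => chkEntP ptab 3 x) = true := by decide +kernel

theorem e3_126976 : allRange 126976 4096 (fun x => chkEntP ptab 3 x) = true := by decide +kernel

theorem e3_131072 : allRange 131072 4096 (fun x => chkEntP ptab 3 x) = true := by decide +kernel

theorem e3_135168 : allRange 135168 4096 (fun x => chkEntP ptab 3 x) = true := by decide +kernel

end Cfsg.Agent.Helper9.TCData.U43P0
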