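import Cfsg.Agent.Lib.Helper9.TCData.U43P0.Main

set_option autoImplicit false
set_option maxRecDepth 1000000

namespace Cfsg.Agent.Helper9.TCData.U43P0
open Cfsg.Agent.Helper9.TC2 Cfsg.Agent.Helper9.LTC Cfsg.Agent.Helper9.LTCM Cfsg.Agent.Helper9.LTCP Cfsg.Agent.Helper9.TCData

theorem e0_196608 : allRange 196608 4096 (fun x => chkEntP ptab 0 x) = true := by decide +kernel

theorem e0_200704 : allRange 200704 4096 (fun x => chkEntP ptab 0 x) = true := by decide +kernel

theorem e0_204800 : allRange 204800 4096 (fun x => chkEntP ptab 0 x) = true := by decide +kernel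

theorem e0_208896 : allRange 208896 4096 (fun x => chkEntP ptab 0 x) = true := by decide +kernel

theorem e0_212992 : allRange 212992 4096 (fun x => chkEntP ptab 0 x) = true := by decide +kernel

theorem e0_217088 : allRange 217088 4096 (fun x => chkEntP ptab 0 x) = true := by decide +kernel

theorem e0_221184 : allRange 221184 4096 (fun x => chkEntP ptab 0 x) = true := by decide +kernel

theorem e0_225280 : allRange 225280 4096 (fun x => chkEntP ptab 0 x) = true := by decide +kernel

end Cfsg.Agent.Helper9.TCData.U43P0
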