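import Cfsg.Agent.Lib.Helper9.TCData.U43P0.Main

set_option autoImplicit false
set_option maxRecDepth 1000000

namespace Cfsg.Agent.Helper9.TCData.U43P0
open Cfsg.Agent.Helper9.TC2 Cfsg.Agent.Helper9.LTC Cfsg.Agent.Helper9.LTCM Cfsg.Agent.Helper9.LTCP Cfsg.Agent.Helper9.TCData

theorem e4_360448 : allRange 360448 4096 (fun x => chkEntP ptab 4 x) = true := by decide +kernel

theorem e4_364544 : allRange 364544 4096 (fun x => chkEntP ptab 4 x) = true := by decide +kernel

theorem e4_368640 : allRange 368640 4096 (fun x => chkEntP ptab 4 x) = true := by decide +kernel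

theorem e4_372736 : allRange 372736 4096 (fun x => chkEntP ptab 4 x) = true := by decide +kernel

theorem e4_376832 : allRange 376832 4096 (fun x => chkEntP ptab 4 x) = true := by decide +kernel

theorem e4_380928 : allRange 380928 4096 (fun x => chkEntP ptab 4 x) = true := by decide +kernel

theorem e4_385024 : allRange 385024 4096 (fun x => chkEntP ptab 4 x) = true := by decide +kernel

theorem e4_389120 : allRange 389120 4096 (fun x => chkEntP ptab 4 x) = true := by decide +kernel

end Cfsg.Agent.Helper9.TCData.U43P0
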