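import Cfsg.Agent.Lib.Helper9.TCData.U43P0.Main

set_option autoImplicit false
set_option maxRecDepth 1000000

namespace Cfsg.Agent.Helper9.TCData.U43P0
open Cfsg.Agent.Helper9.TC2 Cfsg.Agent.Helper9.LTC Cfsg.Agent.Helper9.LTCM Cfsg.Agent.Helper9.LTCP Cfsg.Agent.Helper9.TCData

theorem e5_417792 : allRange 417792 4096 (fun x => chkEntP ptab 5 x) = true := by decide +kernel

theorem e5_421888 : allRange 421888 4096 (fun x => chkEntP ptab 5 x) = true := by decide +kernel

theorem e5_425984 : allRange 425984 4096 (fun x => chkEntP ptab 5 x) = true := by decide +kernel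

theorem e5_430080 : allRange 430080 4096 (fun x => chkEntP ptab 5 x) = true := by decide +kernel

theorem e5_434176 : allRange 434176 4096 (fun x => chkEntP ptab 5 x) = true := by decide +kernel

theorem e5_438272 : allRange 438272 4096 (fun x => chkEntP ptab 5 x) = true := by decide +kernel

theorem e5_442368 : allRange 442368 4096 (fun x => chkEntP ptab 5 x) = true := by decide +kernel

theorem e5_446464 : allRange 446464 4096 (fun x => chkEntP ptab 5 x) = true := by decide +kernel

end Cfsg.Agent.Helper9.TCData.U43P0
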