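import Cfsg.Agent.Lib.Helper9.TCData.U43P0.S0
import Cfsg.Agent.Lib.Helper9.TCData.U43P0.S1
import Cfsg.Agent.Lib.Helper9.TCData.U43P0.S2
import Cfsg.Agent.Lib.Helper9.TCData.U43P0.S3
import Cfsg.Agent.Lib.Helper9.TCData.U43P0.S4
import Cfsg.Agent.Lib.Helper9.TCData.U43P0.S5
import Cfsg.Agent.Lib.Helper9.TCData.U43P0.S6
import Cfsg.Agent.Lib.Helper9.TCData.U43P0.S7
import Cfsg.Agent.Lib.Helper9.TCData.U43P0.S8
import Cfsg.Agent.Lib.Helper9.TCData.U43P0.S9
import Cfsg.Agent.Lib.Helper9.TCData.U43P0.S10
import Cfsg.Agent.Lib.Helper9.TCData.U43P0.S11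
import Cfsg.Agent.Lib.Helper9.TCData.U43P0.S12
import Cfsg.Agent.Lib.Helper9.TCData.U43P0.S13
import Cfsg.Agent.Lib.Helper9.TCData.U43P0.S14
import Cfsg.Agent.Lib.Helper9.TCData.U43P0.S15
import Cfsg.Agent.Lib.Helper9.TCData.U43P0.S16
import Cfsg.Agent.Lib.Helper9.TCData.U43P0.S17
import Cfsg.Agent.Lib.Helper9.TCData.U43P0.S18
import Cfsg.Agent.Lib.Helper9.TCData.U43P0.S19
import Cfsg.Agent.Lib.Helper9.TCData.U43P0.S20
import Cfsg.Agent.Lib.Helper9.TCData.U43P0.S21
import Cfsg.Agent.Lib.Helper9.TCData.U43P0.S22
import Cfsg.Agent.Lib.Helper9.TCData.U43P0.S23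
import Cfsg.Agent.Lib.Helper9.TCData.U43P0.S24
import Cfsg.Agent.Lib.Helper9.TCData.U43P0.S25
import Cfsg.Agent.Lib.Helper9.TCData.U43P0.S26
import Cfsg.Agent.Lib.Helper9.TCData.U43P0.S27
import Cfsg.Agent.Lib.Helper9.TCData.U43P0.S28
import Cfsg.Agent.Lib.Helper9.TCData.U43P0.S29
import Cfsg.Agent.Lib.Helper9.TCData.U43P0.S30
import Cfsg.Agent.Lib.Helper9.TCData.U43P0.S31
import Cfsg.Agent.Lib.Helper9.TCData.U43P0.S32
import Cfsg.Agent.Lib.Helper9.TCData.U43P0.S33
import Cfsg.Agent.Lib.Helper9.TCData.U43P0.S34
import Cfsg.Agent.Lib.Helper9.TCData.U43P0.S35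
import Cfsg.Agent.Lib.Helper9.TCData.U43P0.S36
import Cfsg.Agent.Lib.Helper9.TCData.U43P0.S37
import Cfsg.Agent.Lib.Helper9.TCData.U43P0.S38
import Cfsg.Agent.Lib.Helper9.TCData.U43P0.S39
import Cfsg.Agent.Lib.Helper9.TCData.U43P0.S40
import Cfsg.Agent.Lib.Helper9.TCData.U43P0.S41
import Cfsg.Agent.Lib.Helper9.TCData.U43P0.S42
import Cfsg.Agent.Lib.Helper9.TCData.U43P0.S43
import Cfsg.Agent.Lib.Helper9.TCData.U43P0.S44
import Cfsg.Agent.Lib.Helper9.TCData.U43P0.S45
import Cfsg.Agent.Lib.Helper9.TCData.U43P0.S46
import Cfsg.Agent.Lib.Helper9.TCData.U43P0.S47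
import Cfsg.Agent.Lib.Helper9.TCData.U43P0.S48
import Cfsg.Agent.Lib.Helper9.TCData.U43P0.S49
import Cfsg.Agent.Lib.Helper9.TCData.U43P0.S50
import Cfsg.Agent.Lib.Helper9.TCData.U43P0.S51
import Cfsg.Agent.Lib.Helper9.TCData.U43P0.S52
import Cfsg.Agent.Lib.Helper9.TCData.U43P0.S53
import Cfsg.Agent.Lib.Helper9.TCData.U43P0.S54
import Cfsg.Agent.Lib.Helper9.TCData.U43P0.S55
import Cfsg.Agent.Lib.Helper9.TCData.U43P0.S56
import Cfsg.Agent.Lib.Helper9.TCData.U43P0.S57
import Cfsg.Agent.Lib.Helper9.TCData.U43P0.S58
import Cfsg.Agent.Lib.Helper9.TCData.U43P0.S59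
import Cfsg.Agent.Lib.Helper9.TCData.U43P0.S60
import Cfsg.Agent.Lib.Helper9.TCData.U43P0.S61
import Cfsg.Agent.Lib.Helper9.TCData.U43P0.S62
import Cfsg.Agent.Lib.Helper9.TCData.U43P0.S63
import Cfsg.Agent.Lib.Helper9.TCData.U43P0.S64
import Cfsg.Agent.Lib.Helper9.TCData.U43P0.S65
import Cfsg.Agent.Lib.Helper9.TCData.U43P0.S66
import Cfsg.Agent.Lib.Helper9.TCData.U43P0.S67
import Cfsg.Agent.Lib.Helper9.TCData.U43P0.S68
import Cfsg.Agent.Lib.Helper9.TCData.U43P0.S69
import Cfsg.Agent.Lib.Helper9.TCData.U43P0.S70
import Cfsg.Agent.Lib.Helper9.TCData.U43P0.S71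
import Cfsg.Agent.Lib.Helper9.TCData.U43P0.S72
import Cfsg.Agent.Lib.Helper9.TCData.U43P0.S73
import Cfsg.Agent.Lib.Helper9.TCData.U43P0.S74
import Cfsg.Agent.Lib.Helper9.TCData.U43P0.S75
import Cfsg.Agent.Lib.Helper9.TCData.U43P0.S76
import Cfsg.Agent.Lib.Helper9.TCData.U43P0.S77
import Cfsg.Agent.Lib.Helper9.TCData.U43P0.S78
import Cfsg.Agent.Lib.Helper9.TCData.U43P0.S79
import Cfsg.Agent.Lib.Helper9.TCData.U43P0.S80
import Cfsg.Agent.Lib.Helper9.TCData.U43P0.S81
import Cfsg.Agent.Lib.Helper9.TCData.U43P0.S82
import Cfsg.Agent.Lib.Helper9.TCData.U43P0.S83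
import Cfsg.Agent.Lib.Helper9.TCData.U43P0.S84
import Cfsg.Agent.Lib.Helper9.TCData.U43P0.S85
import Cfsg.Agent.Lib.Helper9.TCData.U43P0.Rel

set_option autoImplicit false
set_option maxRecDepth 1000000

namespace Cfsg.Agent.Helper9.TCData.U43P0
open Cfsg.Agent.Helper9.TC2 Cfsg.Agent.Helper9.LTC Cfsg.Agent.Helper9.LTCM Cfsg.Agent.Helper9.LTCP Cfsg.Agent.Helper9.TCData

theorem hP0_0 : ∀ x < 131072, chkEntP ptab 0 x = true :=
  (ext_range (ext_range (ext_range (ext_range (ext_range (ext_range (ext_range (ext_range (ext_range (ext_range (ext_range (ext_range (ext_range (ext_range (ext_range (ext_range (ext_range (ext_range (ext_range (ext_range (ext_range (ext_range (ext_range (ext_range (ext_range (ext_range (ext_range (ext_range (ext_range (ext_range (ext_range (ext_range range_zero e0_0) e0_4096) e0_8192) e0_12288) e0_16384) e0_20480) e0_24576) e0_28672) e0_32768) e0_36864) e0_40960) e0_45056) e0_49152) e0_53248) e0_57344) e0_61440) e0_65536) e0_69632) e0_73728) e0_77824) e0_81920) e0_86016) e0_90112) e0_94208) e0_98304) e0_102400) e0_106496) e0_110592) e0_114688)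 e0_118784) e0_122880) e0_126976)

theorem hP0_1 : ∀ x < 262144, chkEntP ptab 0 x = true :=
  (ext_range (ext_range (ext_range (ext_range (ext_range (ext_range (ext_range (ext_range (ext_range (ext_range (ext_range (ext_range (ext_range (ext_range (ext_range (ext_range (ext_range (ext_range (ext_range (ext_range (ext_range (ext_range (ext_range (ext_range (ext_range (ext_range (ext_range (ext_range (ext_range (ext_range (ext_range (ext_range hP0_0 e0_131072) e0_135168) e0_139264) e0_143360) e0_147456) e0_151552) e0_155648) e0_159744) e0_163840) e0_167936) e0_172032) e0_176128) e0_180224) e0_184320) e0_188416) e0_192512) e0_196608) e0_200704) e0_204800) e0_208896) e0_212992) e0_217088) e0_221184) e0_225280) e0_229376) e0_233472) e0_237568) e0_241664) e0_245760) e0_249856) e0_253952) e0_258048)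

theorem hP0_2 : ∀ x < 393216, chkEntP ptab 0 x = true :=
  (ext_range (ext_range (ext_range (ext_range (ext_range (ext_range (ext_range (ext_range (ext_range (ext_range (ext_range (ext_range (ext_range (ext_range (ext_range (ext_range (ext_range (ext_range (ext_range (ext_range (ext_range (ext_range (ext_range (ext_range (ext_range (ext_range (ext_range (ext_range (ext_range (ext_range (ext_range (ext_range hP0_1 e0_262144) e0_266240) e0_270336) e0_274432) e0_278528) e0_282624) e0_286720) e0_290816) e0_294912) e0_299008) e0_303104) e0_307200) e0_311296) e0_315392) e0_319488) e0_323584) e0_327680) e0_331776) e0_335872) e0_339968) e0_344064) e0_348160) e0_352256) e0_356352) e0_360448) e0_364544) e0_368640) e0_372736) e0_376832) e0_380928) e0_385024) e0_389120)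

theorem hP0_3 : ∀ x < 466560, chkEntP ptab 0 x = true :=
  (ext_range (ext_range (ext_range (ext_range (ext_range (ext_range (ext_range (ext_range (ext_range (ext_range (ext_range (ext_range (ext_range (ext_range (ext_range (ext_range (ext_range (ext_range hP0_2 e0_393216) e0_397312) e0_401408) e0_405504) e0_409600) e0_413696) e0_417792) e0_421888) e0_425984) e0_430080) e0_434176) e0_438272) e0_442368) e0_446464) e0_450560) e0_454656) e0_458752) e0_462848)

theorem hP0 : ∀ x < ptab.n, chkEntP ptab 0 x = true := hP0_3

theorem hP1_0 : ∀ x < 131072, chkEntP ptab 1 x = true :=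
  (ext_range (ext_range (ext_range (ext_range (ext_range (ext_range (ext_range (ext_range (ext_range (ext_range (ext_range (ext_range (ext_range (ext_range (ext_range (ext_range (ext_range (ext_range (ext_range (ext_range (ext_range (ext_range (ext_range (ext_range (ext_range (ext_range (ext_range (ext_range (ext_range (ext_range (ext_range (ext_range range_zero e1_0) e1_4096) e1_8192) e1_12288) e1_16384) e1_20480) e1_24576) e1_28672) e1_32768) e1_36864) e1_40960) e1_45056) e1_49152) e1_53248) e1_57344) e1_61440) e1_65536) e1_69632) e1_73728) e1_77824) e1_81920) e1_86016) e1_90112) e1_94208) e1_98304) e1_102400) e1_106496) e1_110592) e1_114688) e1_118784) e1_122880) e1_126976)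

theorem hP1_1 : ∀ x < 262144, chkEntP ptab 1 x = true :=
  (ext_range (ext_range (ext_range (ext_range (ext_range (ext_range (ext_range (ext_range (ext_range (ext_range (ext_range (ext_range (ext_range (ext_range (ext_range (ext_range (ext_range (ext_range (ext_range (ext_range (ext_range (ext_range (ext_range (ext_range (ext_range (ext_range (ext_range (ext_range (ext_range (ext_range (ext_range (ext_range hP1_0 e1_131072) e1_135168) e1_139264) e1_143360) e1_147456) e1_151552) e1_155648) e1_159744) e1_163840) e1_167936) e1_172032) e1_176128) e1_180224) e1_184320) e1_188416) e1_192512) e1_196608) e1_200704) e1_204800) e1_208896) e1_212992) e1_217088) e1_221184) e1_225280) e1_229376) e1_233472) e1_237568) e1_241664) e1_245760) e1_249856) e1_253952) e1_258048)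

theorem hP1_2 : ∀ x < 393216, chkEntP ptab 1 x = true :=
  (ext_range (ext_range (ext_range (ext_range (ext_range (ext_range (ext_range (ext_range (ext_range (ext_range (ext_range (ext_range (ext_range (ext_range (ext_range (ext_range (ext_range (ext_range (ext_range (ext_range (ext_range (ext_range (ext_range (ext_range (ext_range (ext_range (ext_range (ext_range (ext_range (ext_range (ext_range (ext_range hP1_1 e1_262144) e1_266240) e1_270336) e1_274432) e1_278528) e1_282624) e1_286720) e1_290816) e1_294912) e1_299008) e1_303104) e1_307200) e1_311296) e1_315392) e1_319488) e1_323584) e1_327680) e1_331776) e1_335872) e1_339968) e1_344064) e1_348160) e1_352256) e1_356352) e1_360448) e1_364544) e1_368640) e1_372736) e1_376832) e1_380928) e1_385024) e1_389120)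

theorem hP1_3 : ∀ x < 466560, chkEntP ptab 1 x = true :=
  (ext_range (ext_range (ext_range (ext_range (ext_range (ext_range (ext_range (ext_range (ext_range (ext_range (ext_range (ext_range (ext_range (ext_range (ext_range (ext_range (ext_range (ext_range hP1_2 e1_393216) e1_397312) e1_401408) e1_405504) e1_409600) e1_413696) e1_417792) e1_421888) e1_425984) e1_430080) e1_434176) e1_438272) e1_442368) e1_446464) e1_450560) e1_454656) e1_458752) e1_462848)

theorem hP1 : ∀ x < ptab.n, chkEntP ptab 1 x = true := hP1_3

theorem hP2_0 : ∀ x < 131072, chkEntP ptab 2 x = true :=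
  (ext_range (ext_range (ext_range (ext_range (ext_range (ext_range (ext_range (ext_range (ext_range (ext_range (ext_range (ext_range (ext_range (ext_range (ext_range (ext_range (ext_range (ext_range (ext_range (ext_range (ext_range (ext_range (ext_range (ext_range (ext_range (ext_range (ext_range (ext_range (ext_range (ext_range (ext_range (ext_range range_zero e2_0) e2_4096) e2_8192) e2_12288) e2_16384) e2_20480) e2_24576) e2_28672) e2_32768) e2_36864) e2_40960) e2_45056) e2_49152) e2_53248) e2_57344) e2_61440) e2_65536) e2_69632) e2_73728) e2_77824) e2_81920) e2_86016) e2_90112) e2_94208) e2_98304) e2_102400) e2_106496) e2_110592) e2_114688) e2_118784) e2_122880) e2_126976)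

theorem hP2_1 : ∀ x < 262144, chkEntP ptab 2 x = true :=
  (ext_range (ext_range (ext_range (ext_range (ext_range (ext_range (ext_range (ext_range (ext_range (ext_range (ext_range (ext_range (ext_range (ext_range (ext_range (ext_range (ext_range (ext_range (ext_range (ext_range (ext_range (ext_range (ext_range (ext_range (ext_range (ext_range (ext_range (ext_range (ext_range (ext_range (ext_range (ext_range hP2_0 e2_131072) e2_135168) e2_139264) e2_143360) e2_147456) e2_151552) e2_155648) e2_159744) e2_163840) e2_167936) e2_172032) e2_176128) e2_180224) e2_184320) e2_188416) e2_192512) e2_196608) e2_200704) e2_204800) e2_208896) e2_212992) e2_217088) e2_221184) e2_225280) e2_229376) e2_233472) e2_237568) e2_241664) e2_245760) e2_249856) e2_253952) e2_258048)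

theorem hP2_2 : ∀ x < 393216, chkEntP ptab 2 x = true :=
  (ext_range (ext_range (ext_range (ext_range (ext_range (ext_range (ext_range (ext_range (ext_range (ext_range (ext_range (ext_range (ext_range (ext_range (ext_range (ext_range (ext_range (ext_range (ext_range (ext_range (ext_range (ext_range (ext_range (ext_range (ext_range (ext_range (ext_range (ext_range (ext_range (ext_range (ext_range (ext_range hP2_1 e2_262144) e2_266240) e2_270336) e2_274432) e2_278528) e2_282624) e2_286720) e2_290816) e2_294912) e2_299008) e2_303104) e2_307200) e2_311296) e2_315392) e2_319488) e2_323584) e2_327680) e2_331776) e2_335872) e2_339968) e2_344064) e2_348160) e2_352256) e2_356352) e2_360448) e2_364544) e2_368640) e2_372736) e2_376832) e2_380928) e2_385024) e2_389120)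

theorem hP2_3 : ∀ x < 466560, chkEntP ptab 2 x = true :=
  (ext_range (ext_range (ext_range (ext_range (ext_range (ext_range (ext_range (ext_range (ext_range (ext_range (ext_range (ext_range (ext_range (ext_range (ext_range (ext_range (ext_range (ext_range hP2_2 e2_393216) e2_397312) e2_401408) e2_405504) e2_409600) e2_413696) e2_417792) e2_421888) e2_425984) e2_430080) e2_434176) e2_438272) e2_442368) e2_446464) e2_450560) e2_454656) e2_458752) e2_462848)

theorem hP2 : ∀ x < ptab.n, chkEntP ptab 2 x = true := hP2_3

theorem hP3_0 : ∀ x < 131072, chkEntP ptab 3 x = true :=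
  (ext_range (ext_range (ext_range (ext_range (ext_range (ext_range (ext_range (ext_range (ext_range (ext_range (ext_range (ext_range (ext_range (ext_range (ext_range (ext_range (ext_range (ext_range (ext_range (ext_range (ext_range (ext_range (ext_range (ext_range (ext_range (ext_range (ext_range (ext_range (ext_range (ext_range (ext_range (ext_range range_zero e3_0) e3_4096) e3_8192) e3_12288) e3_16384) e3_20480) e3_24576) e3_28672) e3_32768) e3_36864) e3_40960) e3_45056) e3_49152) e3_53248) e3_57344) e3_61440) e3_65536) e3_69632) e3_73728) e3_77824) e3_81920) e3_86016) e3_90112) e3_94208) e3_98304) e3_102400) e3_106496) e3_110592) e3_114688) e3_118784) e3_122880) e3_126976)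

theorem hP3_1 : ∀ x < 262144, chkEntP ptab 3 x = true :=
  (ext_range (ext_range (ext_range (ext_range (ext_range (ext_range (ext_range (ext_range (ext_range (ext_range (ext_range (ext_range (ext_range (ext_range (ext_range (ext_range (ext_range (ext_range (ext_range (ext_range (ext_range (ext_range (ext_range (ext_range (ext_range (ext_range (ext_range (ext_range (ext_range (ext_range (ext_range (ext_range hP3_0 e3_131072) e3_135168) e3_139264) e3_143360) e3_147456) e3_151552) e3_155648) e3_159744) e3_163840) e3_167936) e3_172032) e3_176128) e3_180224) e3_184320) e3_188416) e3_192512) e3_196608) e3_200704) e3_204800) e3_208896) e3_212992) e3_217088) e3_221184) e3_225280) e3_229376) e3_233472) e3_237568) e3_241664) e3_245760) e3_249856) e3_253952) e3_258048)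

theorem hP3_2 : ∀ x < 393216, chkEntP ptab 3 x = true :=
  (ext_range (ext_range (ext_range (ext_range (ext_range (ext_range (ext_range (ext_range (ext_range (ext_range (ext_range (ext_range (ext_range (ext_range (ext_range (ext_range (ext_range (ext_range (ext_range (ext_range (ext_range (ext_range (ext_range (ext_range (ext_range (ext_range (ext_range (ext_range (ext_range (ext_range (ext_range (ext_range hP3_1 e3_262144) e3_266240) e3_270336) e3_274432) e3_278528) e3_282624) e3_286720) e3_290816) e3_294912) e3_299008) e3_303104) e3_307200) e3_311296) e3_315392) e3_319488) e3_323584) e3_327680) e3_331776) e3_335872) e3_339968) e3_344064) e3_348160) e3_352256) e3_356352) e3_360448) e3_364544) e3_368640) e3_372736) e3_376832) e3_380928) e3_385024) e3_389120)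

theorem hP3_3 : ∀ x < 466560, chkEntP ptab 3 x = true :=
  (ext_range (ext_range (ext_range (ext_range (ext_range (ext_range (ext_range (ext_range (ext_range (ext_range (ext_range (ext_range (ext_range (ext_range (ext_range (ext_range (ext_range (ext_range hP3_2 e3_393216) e3_397312) e3_401408) e3_405504) e3_409600) e3_413696) e3_417792) e3_421888) e3_425984) e3_430080) e3_434176) e3_438272) e3_442368) e3_446464) e3_450560) e3_454656) e3_458752) e3_462848)

theorem hP3 : ∀ x < ptab.n, chkEntP ptab 3 x = true := hP3_3

theorem hP4_0 : ∀ x < 131072, chkEntP ptab 4 x = true :=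
  (ext_range (ext_range (ext_range (ext_range (ext_range (ext_range (ext_range (ext_range (ext_range (ext_range (ext_range (ext_range (ext_range (ext_range (ext_range (ext_range (ext_range (ext_range (ext_range (ext_range (ext_range (ext_range (ext_range (ext_range (ext_range (ext_range (ext_range (ext_range (ext_range (ext_range (ext_range (ext_range range_zero e4_0) e4_4096) e4_8192) e4_12288) e4_16384) e4_20480) e4_24576) e4_28672) e4_32768) e4_36864) e4_40960) e4_45056) e4_49152) e4_53248) e4_57344) e4_61440) e4_65536) e4_69632) e4_73728) e4_77824) e4_81920) e4_86016) e4_90112) e4_94208) e4_98304) e4_102400) e4_106496) e4_110592) e4_114688) e4_118784) e4_122880) e4_126976)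

theorem hP4_1 : ∀ x < 262144, chkEntP ptab 4 x = true :=
  (ext_range (ext_range (ext_range (ext_range (ext_range (ext_range (ext_range (ext_range (ext_range (ext_range (ext_range (ext_range (ext_range (ext_range (ext_range (ext_range (ext_range (ext_range (ext_range (ext_range (ext_range (ext_range (ext_range (ext_range (ext_range (ext_range (ext_range (ext_range (ext_range (ext_range (ext_range (ext_range hP4_0 e4_131072) e4_135168) e4_139264) e4_143360) e4_147456) e4_151552) e4_155648) e4_159744) e4_163840) e4_167936) e4_172032) e4_176128) e4_180224) e4_184320) e4_188416) e4_192512) e4_196608) e4_200704) e4_204800) e4_208896) e4_212992) e4_217088) e4_221184) e4_225280) e4_229376) e4_233472) e4_237568) e4_241664) e4_245760) e4_249856) e4_253952) e4_258048)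

theorem hP4_2 : ∀ x < 393216, chkEntP ptab 4 x = true :=
  (ext_range (ext_range (ext_range (ext_range (ext_range (ext_range (ext_range (ext_range (ext_range (ext_range (ext_range (ext_range (ext_range (ext_range (ext_range (ext_range (ext_range (ext_range (ext_range (ext_range (ext_range (ext_range (ext_range (ext_range (ext_range (ext_range (ext_range (ext_range (ext_range (ext_range (ext_range (ext_range hP4_1 e4_262144) e4_266240) e4_270336) e4_274432) e4_278528) e4_282624) e4_286720) e4_290816) e4_294912) e4_299008) e4_303104) e4_307200) e4_311296) e4_315392) e4_319488) e4_323584) e4_327680) e4_331776) e4_335872) e4_339968) e4_344064) e4_348160) e4_352256) e4_356352) e4_360448) e4_364544) e4_368640) e4_372736) e4_376832) e4_380928) e4_385024) e4_389120)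

theorem hP4_3 : ∀ x < 466560, chkEntP ptab 4 x = true :=
  (ext_range (ext_range (ext_range (ext_range (ext_range (ext_range (ext_range (ext_range (ext_range (ext_range (ext_range (ext_range (ext_range (ext_range (ext_range (ext_range (ext_range (ext_range hP4_2 e4_393216) e4_397312) e4_401408) e4_405504) e4_409600) e4_413696) e4_417792) e4_421888) e4_425984) e4_430080) e4_434176) e4_438272) e4_442368) e4_446464) e4_450560) e4_454656) e4_458752) e4_462848)

theorem hP4 : ∀ x < ptab.n, chkEntP ptab 4 x = true := hP4_3

theorem hP5_0 : ∀ x < 131072, chkEntP ptab 5 x = true :=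
  (ext_range (ext_range (ext_range (ext_range (ext_range (ext_range (ext_range (ext_range (ext_range (ext_range (ext_range (ext_range (ext_range (ext_range (ext_range (ext_range (ext_range (ext_range (ext_range (ext_range (ext_range (ext_range (ext_range (ext_range (ext_range (ext_range (ext_range (ext_range (ext_range (ext_range (ext_range (ext_range range_zero e5_0) e5_4096) e5_8192) e5_12288) e5_16384) e5_20480) e5_24576) e5_28672) e5_32768) e5_36864) e5_40960) e5_45056) e5_49152) e5_53248) e5_57344) e5_61440) e5_65536) e5_69632) e5_73728) e5_77824) e5_81920) e5_86016) e5_90112) e5_94208) e5_98304) e5_102400) e5_106496) e5_110592) e5_114688) e5_118784) e5_122880) e5_126976)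

theorem hP5_1 : ∀ x < 262144, chkEntP ptab 5 x = true :=
  (ext_range (ext_range (ext_range (ext_range (ext_range (ext_range (ext_range (ext_range (ext_range (ext_range (ext_range (ext_range (ext_range (ext_range (ext_range (ext_range (ext_range (ext_range (ext_range (ext_range (ext_range (ext_range (ext_range (ext_range (ext_range (ext_range (ext_range (ext_range (ext_range (ext_range (ext_range (ext_range hP5_0 e5_131072) e5_135168) e5_139264) e5_143360) e5_147456) e5_151552) e5_155648) e5_159744) e5_163840) e5_167936) e5_172032) e5_176128) e5_180224) e5_184320) e5_188416) e5_192512) e5_196608) e5_200704) e5_204800) e5_208896) e5_212992) e5_217088) e5_221184) e5_225280) e5_229376) e5_233472) e5_237568) e5_241664) e5_245760) e5_249856) e5_253952) e5_258048)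

theorem hP5_2 : ∀ x < 393216, chkEntP ptab 5 x = true :=
  (ext_range (ext_range (ext_range (ext_range (ext_range (ext_range (ext_range (ext_range (ext_range (ext_range (ext_range (ext_range (ext_range (ext_range (ext_range (ext_range (ext_range (ext_range (ext_range (ext_range (ext_range (ext_range (ext_range (ext_range (ext_range (ext_range (ext_range (ext_range (ext_range (ext_range (ext_range (ext_range hP5_1 e5_262144) e5_266240) e5_270336) e5_274432) e5_278528) e5_282624) e5_286720) e5_290816) e5_294912) e5_299008) e5_303104) e5_307200) e5_311296) e5_315392) e5_319488) e5_323584) e5_327680) e5_331776) e5_335872) e5_339968) e5_344064) e5_348160) e5_352256) e5_356352) e5_360448) e5_364544) e5_368640) e5_372736) e5_376832) e5_380928) e5_385024) e5_389120)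

theorem hP5_3 : ∀ x < 466560, chkEntP ptab 5 x = true :=
  (ext_range (ext_range (ext_range (ext_range (ext_range (ext_range (ext_range (ext_range (ext_range (ext_range (ext_range (ext_range (ext_range (ext_range (ext_range (ext_range (ext_range (ext_range hP5_2 e5_393216) e5_397312) e5_401408) e5_405504) e5_409600) e5_413696) e5_417792) e5_421888) e5_425984) e5_430080) e5_434176) e5_438272) e5_442368) e5_446464) e5_450560) e5_454656) e5_458752) e5_462848)

theorem hP5 : ∀ x < ptab.n, chkEntP ptab 5 x = true := hP5_3

theorem hP : ∀ c < ptab.k, ∀ x < ptab.n, chkEntP ptab c x = true := by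
  intro c hc
  have hc' : c < 6 := hc
  interval_cases c
  · exact hP0
  · exact hP1
  · exact hP2
  · exact hP3
  · exact hP4
  · exact hP5

theorem hE : ∀ c < tab.k, ∀ x < tab.n, chkEntM 216 tab c x = true :=
  fun c hc x hx => chkEntM_of_chkEntP ptab_ok (hP c hc x hx)

theorem h0 : tab.rk 0 = 0 := rfl

end Cfsg.Agent.Helper9.TCData.U43P0
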