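import Cfsg.Agent.Lib.Helper9.TCData.U43P0.Rel

set_option autoImplicit false
set_option maxRecDepth 1000000

namespace Cfsg.Agent.Helper9.TCData.U43P0
open Cfsg.Agent.Helper9.TC2 Cfsg.Agent.Helper9.LTC Cfsg.Agent.Helper9.LTCM Cfsg.Agent.Helper9.LTCP

/-- The coefficients of the combinations of the relation vectors. -/
def combs : List (List ℤ) := [[Int.ofNat 3, Int.ofNat 213, Int.ofNat 129, Int.ofNat 153, Int.ofNat 48, Int.ofNat 18, Int.ofNat 67],
  [Int.ofNat 168, Int.ofNat 122, Int.ofNat 182, Int.ofNat 159, Int.ofNat 83, Int.ofNat 214, Int.ofNat 134],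
  [Int.ofNat 143, Int.ofNat 141, Int.ofNat 155, Int.ofNat 182, Int.ofNat 3, Int.ofNat 191, Int.ofNat 184],
  [Int.ofNat 45, Int.ofNat 48, Int.ofNat 206, Int.ofNat 182, Int.ofNat 43, Int.ofNat 26, Int.ofNat 67],
  [Int.ofNat 139, Int.ofNat 124, Int.ofNat 177, Int.ofNat 80, Int.ofNat 76, Int.ofNat 211, Int.ofNat 204],
  [Int.ofNat 175, Int.ofNat 165, Int.ofNat 106, Int.ofNat 164, Int.ofNat 213, Int.ofNat 164, Int.ofNat 161],
  [Int.ofNat 69, Int.ofNat 4, Int.ofNat 203, Int.ofNat 180, Int.ofNat 68, Int.ofNat 115, Int.ofNat 161]]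

/-- The combinations: the central generators are products of powers of the generators `5` and `6`. -/
def tgts : List (List ℤ) := [vsub (unitV 0) (vadd (vsmul 1 (unitV 5)) (vsmul 7 (unitV 6))),
  vsub (unitV 1) (vadd (vsmul 0 (unitV 5)) (vsmul 0 (unitV 6))),
  vsub (unitV 2) (vadd (vsmul 2 (unitV 5)) (vsmul 10 (unitV 6))),
  vsub (unitV 3) (vadd (vsmul 1 (unitV 5)) (vsmul 11 (unitV 6))),
  vsub (unitV 4) (vadd (vsmul 1 (unitV 5)) (vsmul 7 (unitV 6))),
  vadd (vsmul 3 (unitV 5)) (vsmul 9 (unitV 6)),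
  vsmul 12 (unitV 6)]

theorem comb_ok : ∀ i < 7, veqM 216 (vcomb (combs.getD i []) rhos) (tgts.getD i []) = true := by
  decide +kernel

end Cfsg.Agent.Helper9.TCData.U43P0
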