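import Cfsg.Agent.Lib.Helper9.LTCP
import Cfsg.Agent.Lib.Helper9.TCData.U43P0.P0
import Cfsg.Agent.Lib.Helper9.TCData.U43P0.P1
import Cfsg.Agent.Lib.Helper9.TCData.U43P0.P2
import Cfsg.Agent.Lib.Helper9.TCData.U43P0.P3
import Cfsg.Agent.Lib.Helper9.TCData.U43P0.P4
import Cfsg.Agent.Lib.Helper9.TCData.U43P0.P5
import Cfsg.Agent.Lib.Helper9.TCData.U43P0.P6
import Cfsg.Agent.Lib.Helper9.TCData.U43P0.P7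
import Cfsg.Agent.Lib.Helper9.TCData.U43P0.P8
import Cfsg.Agent.Lib.Helper9.TCData.U43P0.P9
import Cfsg.Agent.Lib.Helper9.TCData.U43P0.P10
import Cfsg.Agent.Lib.Helper9.TCData.U43P0.P11

set_option autoImplicit false
set_option maxRecDepth 1000000

namespace Cfsg.Agent.Helper9.TCData.U43P0
open Cfsg.Agent.Helper9.TC2 Cfsg.Agent.Helper9.LTC Cfsg.Agent.Helper9.LTCM Cfsg.Agent.Helper9.LTCP Cfsg.Agent.Helper9.TCData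

/-- The rotated relators without their heads, reversed. -/
noncomputable def rotBT : WT := (WT.node 115 (WT.node 57 (WT.node 28 (WT.node 14 (WT.node 7 (WT.node 3 (WT.node 1 (WT.leaf [0]) (WT.node 2 (WT.leaf [5, 2]) (WT.leaf [2, 2, 0, 3, 1, 3, 1, 2, 1, 2, 1, 2, 2, 1, 2, 1, 3, 3, 1, 2, 2, 1, 3, 3, 1, 3, 3, 0, 2, 0, 3, 3, 0, 3, 0, 3]))) (WT.node 5 (WT.node 4 (WT.leaf [3, 0, 2, 0, 3, 3, 0, 3, 0, 3, 3, 0, 2, 0, 2, 2, 0, 3, 0, 3, 3, 0, 3, 0, 2, 0, 2, 0, 3, 0, 3, 0, 3, 3, 0, 3]) (WT.leaf [2, 0, 3, 0, 2, 0, 2, 0, 3, 0, 2, 0, 2, 2, 0, 3, 0, 3, 0, 3, 0, 3, 0, 3, 3, 0, 2, 0, 2, 0, 3, 0, 2, 0, 3, 3])) (WT.node 6 (WT.leaf [2, 0, 2, 0, 3, 0, 3, 0, 3, 3, 0, 3, 0, 3, 0, 2, 0, 3, 3, 0, 3, 0, 3, 3, 0, 2, 0, 2, 2, 0, 3, 0, 3, 3, 0, 3]) (WT.leaf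 [2, 0, 3, 3, 0, 2, 0, 3, 0, 2, 0, 2, 0, 3, 0, 2, 0, 2, 2, 0, 3, 0, 3, 0, 3, 0, 3, 0, 3, 3, 0, 2, 0, 2, 0, 3])))) (WT.node 10 (WT.node 8 (WT.leaf [3, 0, 3, 0, 3, 3, 0, 2, 0, 2, 0, 3, 0, 2, 0, 3, 3, 0, 2, 0, 3, 0, 2, 0, 2, 0, 3, 0, 2, 0, 2, 2, 0, 3, 0, 3]) (WT.node 9 (WT.leaf [2, 0, 3, 0, 2, 0, 2, 2, 0, 3, 0, 3, 0, 3, 0, 3, 0, 3, 3, 0, 2, 0, 2, 0, 3, 0, 2, 0, 3, 3, 0, 2, 0, 3, 0, 2]) (WT.leaf [3, 0, 3, 0, 3, 0, 3, 3, 0, 2, 0, 2, 0, 3, 0, 2, 0, 3, 3, 0, 2, 0, 3, 0, 2, 0, 2, 0, 3, 0, 2, 0, 2, 2, 0, 3]))) (WT.node 12 (WT.node 11 (WT.leaf [2, 0, 2, 0, 3, 0, 2, 0, 3, 3, 0, 2, 0, 3, 0, 2, 0, 2, 0, 3, 0, 2, 0, 2, 2, 0, 3, 0, 3, 0, 3, 0, 3, 0, 3, 3]) (WT.leaf [2, 0, 2, 2, 0, 3, 0, 3, 3, 0, 3, 0, 2, 0, 2, 0, 3, 0, 3, 0, 3, 3, 0, 3, 0, 3,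 0, 2, 0, 3, 3, 0, 3, 0, 3, 3])) (WT.node 13 (WT.leaf [2, 2, 0, 2, 0, 3, 3, 0, 3, 0, 3, 3, 0, 2, 0, 3, 0, 3, 0, 3, 3, 0, 3, 0, 3, 0, 2, 0, 2, 0, 3, 0, 3, 3, 0, 3]) (WT.leaf [3, 0, 3, 0, 3, 3, 0, 3, 3, 0, 2, 2, 0, 3, 0, 3, 0, 3, 3, 0, 2, 0, 3, 0, 3, 3, 0, 3, 3, 0, 2, 0, 3, 3, 0, 3, 3]))))) (WT.node 21 (WT.node 17 (WT.node 15 (WT.leaf [2, 0, 3, 3, 0, 3, 0, 3, 3, 0, 2, 0, 2, 2, 0, 3, 0, 3, 3, 0, 3, 0, 2, 0, 2, 0, 3, 0, 3, 0, 3, 3, 0, 3, 0, 3]) (WT.node 16 (WT.leaf [2, 0, 3, 0, 3, 0, 3, 3, 0, 3, 0, 3, 0, 2, 0, 2, 0, 3, 0, 3, 3, 0, 3, 0, 2, 2, 0, 2, 0, 3, 3, 0, 3, 0, 3, 3]) (WT.leaf [3, 3, 0, 3, 0, 3, 0, 2, 0, 3, 3, 0, 3, 0, 3, 3, 0, 2, 0, 2, 2, 0, 3, 0, 3, 3, 0, 3, 0, 2, 0, 2, 0, 3, 0, 3]))) (WT.node 19 (WT.node 18 (WT.leaf [3, 0,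 3, 3, 0, 2, 0, 2, 0, 3, 0, 2, 0, 3, 3, 0, 2, 0, 3, 0, 2, 0, 2, 0, 3, 0, 2, 0, 2, 2, 0, 3, 0, 3, 0, 3]) (WT.leaf [3, 0, 3, 0, 3, 3, 0, 3, 0, 3, 0, 2, 0, 2, 0, 3, 0, 3, 3, 0, 3, 0, 2, 2, 0, 2, 0, 3, 3, 0, 3, 0, 3, 3, 0, 2])) (WT.node 20 (WT.leaf [2, 0, 2, 2, 0, 3, 0, 3, 0, 3, 0, 3, 0, 3, 3, 0, 2, 0, 2, 0, 3, 0, 2, 0, 3, 3, 0, 2, 0, 3, 0, 2, 0, 2, 0, 3]) (WT.leaf [2, 0, 3, 0, 3, 3, 0, 3, 0, 2, 2, 0, 2, 0, 3, 3, 0, 3, 0, 3, 3, 0, 2, 0, 3, 0, 3, 0, 3, 3, 0, 3, 0, 3, 0, 2])))) (WT.node 24 (WT.node 22 (WT.leaf [2, 0, 3, 3, 0, 3, 0, 3, 0, 2, 2, 0, 3, 1, 3, 1, 2, 1, 2, 1, 2, 2, 1, 2, 1, 3, 3, 1, 2, 2, 1, 3, 3, 1, 3, 3]) (WT.node 23 (WT.leaf [2, 0, 3, 0, 3, 0, 3, 3, 0, 3, 0, 3, 0, 2, 0, 3, 3, 0, 3, 0, 3, 3, 0, 2, 0, 2, 2, 0, 3, 0, 3, 3,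 0, 3, 0, 2]) (WT.leaf [3, 3, 0, 2, 0, 3, 0, 2, 0, 2, 0, 3, 0, 2, 0, 2, 2, 0, 3, 0, 3, 0, 3, 0, 3, 0, 3, 3, 0, 2, 0, 2, 0, 3, 0, 2]))) (WT.node 26 (WT.node 25 (WT.leaf [3, 0, 3, 3, 0, 3, 0, 2, 2, 0, 2, 0, 3, 3, 0, 3, 0, 3, 3, 0, 2, 0, 3, 0, 3, 0, 3, 3, 0, 3, 0, 3, 0, 2, 0, 2]) (WT.leaf [3, 0, 3, 3, 0, 2, 0, 3, 0, 3, 0, 3, 3, 0, 3, 0, 3, 0, 2, 0, 2, 0, 3, 0, 3, 3, 0, 3, 0, 2, 2, 0, 2, 0, 3, 3])) (WT.node 27 (WT.leaf [3, 0, 3, 3, 0, 3, 0, 3, 0, 2, 0, 3, 3, 0, 3, 0, 3, 3, 0, 2, 0, 2, 2, 0, 3, 0, 3, 3, 0, 3, 0, 2, 0, 2, 0, 3]) (WT.leaf [3, 0, 2, 0, 2, 0, 3, 0, 3, 0, 3, 3, 0, 3, 0, 3, 0, 2, 0, 3, 3, 0, 3, 0, 3, 3, 0, 2, 0, 2, 2, 0, 3, 0, 3, 3])))))) (WT.node 42 (WT.node 35 (WT.node 31 (WT.node 29 (WT.leaf [2, 0, 2, 0, 3, 0, 3, 3, 0,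 3, 0, 2, 2, 0, 2, 0, 3, 3, 0, 3, 0, 3, 3, 0, 2, 0, 3, 0, 3, 0, 3, 3, 0, 3, 0, 3]) (WT.node 30 (WT.leaf [3, 0, 3, 0, 2, 0, 3, 3, 0, 3, 0, 3, 3, 0, 2, 0, 2, 2, 0, 3, 0, 3, 3, 0, 3, 0, 2, 0, 2, 0, 3, 0, 3, 0, 3, 3]) (WT.leaf [2, 0, 3, 0, 2, 0, 3, 3, 0, 2, 0, 3, 0, 2, 0, 2, 0, 3, 0, 2, 0, 2, 2, 0, 3, 0, 3, 0, 3, 0, 3, 0, 3, 3, 0, 2]))) (WT.node 33 (WT.node 32 (WT.leaf [2, 0, 3, 3, 0, 3, 3, 0, 3, 0, 3, 0, 3, 3, 0, 3, 3, 0, 2, 2, 0, 3, 0, 3, 0, 3, 3, 0, 2, 0, 3, 0, 3, 3, 0, 3, 3]) (WT.leaf [3, 0, 2, 0, 2, 0, 3, 0, 3, 3, 0, 3, 0, 2, 2, 0, 2, 0, 3, 3, 0, 3, 0, 3, 3, 0, 2, 0, 3, 0, 3, 0, 3, 3, 0, 3])) (WT.node 34 (WT.leaf [2, 0, 2, 0, 3, 0, 2, 0, 2, 2, 0, 3, 0, 3, 0, 3, 0, 3, 0, 3, 3, 0, 2, 0, 2, 0, 3, 0, 2, 0, 3, 3, 0, 2, 0, 3]) (WT.leaf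 [2, 2, 0, 3, 0, 3, 0, 3, 3, 0, 2, 0, 3, 0, 3, 3, 0, 3, 3, 0, 2, 0, 3, 3, 0, 3, 3, 0, 3, 0, 3, 0, 3, 3, 0, 3, 3])))) (WT.node 38 (WT.node 36 (WT.leaf [3, 0, 3, 0, 2, 0, 2, 0, 3, 0, 3, 3, 0, 3, 0, 2, 2, 0, 2, 0, 3, 3, 0, 3, 0, 3, 3, 0, 2, 0, 3, 0, 3, 0, 3, 3]) (WT.node 37 (WT.leaf [3, 1, 3, 1, 2, 1, 2, 1, 2, 2, 1, 2, 1, 3, 3, 1, 2, 2, 1, 3, 3, 1, 3, 3, 0, 2, 0, 3, 3, 0, 3, 0, 3, 0, 2, 2]) (WT.leaf [3, 3, 0, 2, 0, 2, 0, 3, 0, 2, 0, 3, 3, 0, 2, 0, 3, 0, 2, 0, 2, 0, 3, 0, 2, 0, 2, 2, 0, 3, 0, 3, 0, 3, 0, 3]))) (WT.node 40 (WT.node 39 (WT.leaf [3, 3, 0, 3, 0, 2, 2, 0, 2, 0, 3, 3, 0, 3, 0, 3, 3, 0, 2, 0, 3, 0, 3, 0, 3, 3, 0, 3, 0, 3, 0, 2, 0, 2, 0, 3]) (WT.leaf [3, 0, 2, 2, 0, 2, 0, 3, 3, 0, 3, 0, 3, 3, 0, 2, 0, 3, 0, 3, 0, 3, 3, 0,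 3, 0, 3, 0, 2, 0, 2, 0, 3, 0, 3, 3])) (WT.node 41 (WT.leaf [3, 3, 0, 3, 0, 2, 0, 2, 0, 3, 0, 3, 0, 3, 3, 0, 3, 0, 3, 0, 2, 0, 3, 3, 0, 3, 0, 3, 3, 0, 2, 0, 2, 2, 0, 3]) (WT.leaf [2, 0, 3, 0, 3, 3, 0, 3, 3, 0, 2, 0, 3, 3, 0, 3, 3, 0, 3, 0, 3, 0, 3, 3, 0, 3, 3, 0, 2, 2, 0, 3, 0, 3, 0, 3, 3]))))) (WT.node 49 (WT.node 45 (WT.node 43 (WT.leaf [3, 3, 0, 3, 3, 0, 3, 0, 2, 0, 3, 3, 0, 3, 0, 3, 0, 2, 2, 0, 3, 3, 0, 3, 3, 0, 3, 0, 3, 0, 3, 3, 0, 3, 3, 0, 2]) (WT.node 44 (WT.leaf [3, 3, 0, 3, 0, 2, 0, 3, 3, 0, 3, 0, 3, 0, 2, 2, 0, 3, 3, 0, 3, 3, 0, 3, 0, 3, 0, 3, 3, 0, 3, 3, 0, 2, 0, 3, 3]) (WT.leaf [2, 2, 0, 3, 0, 3, 3, 0, 3, 0, 2, 0, 2, 0, 3, 0, 3, 0, 3, 3, 0, 3, 0, 3, 0, 2, 0, 3, 3, 0, 3, 0, 3, 3, 0, 2]))) (WT.node 47 (WT.node 46 (WT.leaf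 [3, 3, 0, 2, 0, 3, 3, 0, 3, 3, 0, 3, 0, 3, 0, 3, 3, 0, 3, 3, 0, 2, 2, 0, 3, 0, 3, 0, 3, 3, 0, 2, 0, 3, 0, 3, 3]) (WT.leaf [3, 0, 2, 2, 0, 3, 1, 3, 1, 2, 1, 2, 1, 2, 2, 1, 2, 1, 3, 3, 1, 2, 2, 1, 3, 3, 1, 3, 3, 0, 2, 0, 3, 3, 0, 3])) (WT.node 48 (WT.leaf [2, 0, 3, 3, 0, 3, 0, 3, 3, 0, 2, 0, 3, 0, 3, 0, 3, 3, 0, 3, 0, 3, 0, 2, 0, 2, 0, 3, 0, 3, 3, 0, 3, 0, 2, 2]) (WT.leaf [3, 3, 0, 2, 0, 3, 0, 3, 3, 0, 3, 3, 0, 2, 0, 3, 3, 0, 3, 3, 0, 3, 0, 3, 0, 3, 3, 0, 3, 3, 0, 2, 2, 0, 3, 0, 3])))) (WT.node 53 (WT.node 51 (WT.node 50 (WT.leaf [3, 3, 0, 3, 0, 3, 3, 0, 2, 0, 2, 2, 0, 3, 0, 3, 3, 0, 3, 0, 2, 0, 2, 0, 3, 0, 3, 0, 3, 3, 0, 3, 0, 3, 0, 2]) (WT.leaf [3, 3, 0, 2, 2, 0, 3, 0, 3, 0, 3, 3, 0, 2, 0, 3, 0, 3, 3, 0, 3, 3, 0, 2, 0, 3, 3,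 0, 3, 3, 0, 3, 0, 3, 0, 3, 3])) (WT.node 52 (WT.leaf [3, 3, 0, 2, 0, 2, 2, 0, 3, 0, 3, 3, 0, 3, 0, 2, 0, 2, 0, 3, 0, 3, 0, 3, 3, 0, 3, 0, 3, 0, 2, 0, 3, 3, 0, 3]) (WT.leaf [3, 3, 0, 2, 0, 3, 3, 0, 3, 3, 0, 3, 0, 2, 0, 3, 3, 0, 3, 0, 3, 0, 2, 2, 0, 3, 3, 0, 3, 3, 0, 3, 0, 3, 0, 3, 3]))) (WT.node 55 (WT.node 54 (WT.leaf [3, 0, 3, 0, 2, 2, 0, 3, 3, 0, 3, 3, 0, 3, 0, 3, 0, 3, 3, 0, 3, 3, 0, 2, 0, 3, 3, 0, 3, 3, 0, 3, 0, 2, 0, 3, 3]) (WT.leaf [3, 3, 0, 3, 0, 3, 0, 2, 0, 2, 0, 3, 0, 3, 3, 0, 3, 0, 2, 2, 0, 2, 0, 3, 3, 0, 3, 0, 3, 3, 0, 2, 0, 3, 0, 3])) (WT.node 56 (WT.leaf [3, 0, 3, 0, 3, 3, 0, 3, 3, 0, 2, 0, 3, 3, 0, 3, 3, 0, 3, 0, 2, 0, 3, 3, 0, 3, 0, 3, 0, 2, 2, 0, 3, 3, 0, 3, 3]) (WT.leaf [3, 3, 0, 3, 0, 3, 0, 3, 3, 0, 3, 3, 0,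 2, 2, 0, 3, 0, 3, 0, 3, 3, 0, 2, 0, 3, 0, 3, 3, 0, 3, 3, 0, 2, 0, 3, 3]))))))) (WT.node 86 (WT.node 71 (WT.node 64 (WT.node 60 (WT.node 58 (WT.leaf [3, 0, 3, 0, 2, 2, 0, 3, 1, 3, 1, 2, 1, 2, 1, 2, 2, 1, 2, 1, 3, 3, 1, 2, 2, 1, 3, 3, 1, 3, 3, 0, 2, 0, 3, 3]) (WT.node 59 (WT.leaf [3, 0, 3, 3, 0, 3, 3, 0, 2, 0, 3, 3, 0, 3, 3, 0, 3, 0, 2, 0, 3, 3, 0, 3, 0, 3, 0, 2, 2, 0, 3, 3, 0, 3, 3, 0, 3]) (WT.leaf [3, 3, 0, 3, 3, 0, 2, 0, 3, 3, 0, 3, 3, 0, 3, 0, 3, 0, 3, 3, 0, 3, 3, 0, 2, 2, 0, 3, 0, 3, 0, 3, 3, 0, 2, 0, 3]))) (WT.node 62 (WT.node 61 (WT.leaf [3, 3, 0, 3, 3, 0, 3, 0, 3, 0, 3, 3, 0, 3, 3, 0, 2, 0, 3, 3, 0, 3, 3, 0, 3, 0, 2, 0, 3, 3, 0, 3, 0, 3, 0, 2, 2]) (WT.leaf [2, 0, 3, 3, 0, 3, 0, 3, 0, 2, 2, 0, 3, 3, 0, 3, 3, 0, 3, 0, 3,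 0, 3, 3, 0, 3, 3, 0, 2, 0, 3, 3, 0, 3, 3, 0, 3])) (WT.node 63 (WT.leaf [3, 0, 3, 3, 0, 2, 0, 3, 0, 3, 3, 0, 3, 3, 0, 2, 0, 3, 3, 0, 3, 3, 0, 3, 0, 3, 0, 3, 3, 0, 3, 3, 0, 2, 2, 0, 3]) (WT.leaf [3, 0, 2, 0, 3, 3, 0, 3, 0, 3, 0, 2, 2, 0, 3, 3, 0, 3, 3, 0, 3, 0, 3, 0, 3, 3, 0, 3, 3, 0, 2, 0, 3, 3, 0, 3, 3])))) (WT.node 67 (WT.node 65 (WT.leaf [3, 0, 2, 0, 2, 2, 0, 3, 0, 3, 0, 3, 0, 3, 0, 3, 3, 0, 2, 0, 2, 0, 3, 0, 2, 0, 3, 3, 0, 2, 0, 3, 0, 2, 0, 2]) (WT.node 66 (WT.leaf [3, 3, 0, 3, 3, 0, 2, 2, 0, 3, 0, 3, 0, 3, 3, 0, 2, 0, 3, 0, 3, 3, 0, 3, 3, 0, 2, 0, 3, 3, 0, 3, 3, 0, 3, 0, 3]) (WT.leaf [3, 3, 0, 3, 0, 3, 0, 3, 3, 0, 3, 3, 0, 2, 0, 3, 3, 0, 3, 3, 0, 3, 0, 2, 0, 3, 3, 0, 3, 0, 3, 0, 2, 2, 0, 3, 3]))) (WT.node 69 (WT.node 68 (WT.leaf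 [3, 0, 3, 3, 0, 3, 3, 0, 2, 2, 0, 3, 0, 3, 0, 3, 3, 0, 2, 0, 3, 0, 3, 3, 0, 3, 3, 0, 2, 0, 3, 3, 0, 3, 3, 0, 3]) (WT.leaf [3, 0, 2, 0, 3, 3, 0, 2, 0, 3, 0, 2, 0, 2, 0, 3, 0, 2, 0, 2, 2, 0, 3, 0, 3, 0, 3, 0, 3, 0, 3, 3, 0, 2, 0, 2])) (WT.node 70 (WT.leaf [2, 0, 3, 3, 0, 3, 3, 0, 3, 0, 2, 0, 3, 3, 0, 3, 0, 3, 0, 2, 2, 0, 3, 3, 0, 3, 3, 0, 3, 0, 3, 0, 3, 3, 0, 3, 3]) (WT.leaf [3, 0, 2, 0, 2, 0, 3, 0, 2, 0, 2, 2, 0, 3, 0, 3, 0, 3, 0, 3, 0, 3, 3, 0, 2, 0, 2, 0, 3, 0, 2, 0, 3, 3, 0, 2]))))) (WT.node 78 (WT.node 74 (WT.node 72 (WT.leaf [2, 2, 0, 3, 3, 0, 3, 3, 0, 3, 0, 3, 0, 3, 3, 0, 3, 3, 0, 2, 0, 3, 3, 0, 3, 3, 0, 3, 0, 2, 0, 3, 3, 0, 3, 0, 3]) (WT.node 73 (WT.leaf [3, 0, 2, 2, 0, 3, 3, 0, 3, 3, 0, 3, 0, 3, 0, 3, 3, 0, 3, 3, 0, 2,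 0, 3, 3, 0, 3, 3, 0, 3, 0, 2, 0, 3, 3, 0, 3]) (WT.leaf [3, 0, 3, 3, 0, 3, 0, 2, 0, 2, 0, 3, 0, 3, 0, 3, 3, 0, 3, 0, 3, 0, 2, 0, 3, 3, 0, 3, 0, 3, 3, 0, 2, 0, 2, 2]))) (WT.node 76 (WT.node 75 (WT.leaf [3, 0, 3, 3, 0, 3, 0, 3, 0, 2, 0, 2, 0, 3, 0, 3, 3, 0, 3, 0, 2, 2, 0, 2, 0, 3, 3, 0, 3, 0, 3, 3, 0, 2, 0, 3]) (WT.leaf [3, 0, 3, 0, 3, 0, 3, 0, 3, 3, 0, 2, 0, 2, 0, 3, 0, 2, 0, 3, 3, 0, 2, 0, 3, 0, 2, 0, 2, 0, 3, 0, 2, 0, 2, 2])) (WT.node 77 (WT.leaf [3, 3, 0, 2, 0, 3, 0, 3, 0, 3, 3, 0, 3, 0, 3, 0, 2, 0, 2, 0, 3, 0, 3, 3, 0, 3, 0, 2, 2, 0, 2, 0, 3, 3, 0, 3]) (WT.leaf [3, 0, 3, 3, 0, 2, 0, 2, 2, 0, 3, 0, 3, 3, 0, 3, 0, 2, 0, 2, 0, 3, 0, 3, 0, 3, 3, 0, 3, 0, 3, 0, 2, 0, 3, 3])))) (WT.node 82 (WT.node 80 (WT.node 79 (WT.leaf [3, 3,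 0, 3, 0, 3, 3, 0, 2, 0, 3, 0, 3, 0, 3, 3, 0, 3, 0, 3, 0, 2, 0, 2, 0, 3, 0, 3, 3, 0, 3, 0, 2, 2, 0, 2]) (WT.leaf [3, 3, 0, 3, 3, 0, 3, 0, 3, 0, 3, 3, 0, 3, 3, 0, 2, 2, 0, 3, 0, 3, 0, 3, 3, 0, 2, 0, 3, 0, 3, 3, 0, 3, 3, 0, 2])) (WT.node 81 (WT.leaf [2, 2, 0, 3, 0, 3, 0, 3, 0, 3, 0, 3, 3, 0, 2, 0, 2, 0, 3, 0, 2, 0, 3, 3, 0, 2, 0, 3, 0, 2, 0, 2, 0, 3, 0, 2]) (WT.leaf [3, 0, 3, 3, 0, 3, 3, 0, 2, 0, 3, 3, 0, 3, 3, 0, 3, 0, 3, 0, 3, 3, 0, 3, 3, 0, 2, 2, 0, 3, 0, 3, 0, 3, 3, 0, 2]))) (WT.node 84 (WT.node 83 (WT.leaf [3, 3, 0, 3, 3, 0, 2, 0, 3, 3, 0, 3, 3, 0, 3, 0, 2, 0, 3, 3, 0, 3, 0, 3, 0, 2, 2, 0, 3, 3, 0, 3, 3, 0, 3, 0, 3]) (WT.leaf [3, 0, 3, 0, 3, 3, 0, 2, 0, 3, 0, 3, 3, 0, 3, 3, 0, 2, 0, 3, 3, 0, 3, 3, 0, 3, 0, 3, 0, 3, 3, 0, 3,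 3, 0, 2, 2])) (WT.node 85 (WT.leaf [3, 3, 0, 3, 0, 3, 0, 2, 2, 0, 3, 1, 3, 1, 2, 1, 2, 1, 2, 2, 1, 2, 1, 3, 3, 1, 2, 2, 1, 3, 3, 1, 3, 3, 0, 2]) (WT.leaf [3, 3, 0, 3, 0, 3, 0, 2, 2, 0, 3, 3, 0, 3, 3, 0, 3, 0, 3, 0, 3, 3, 0, 3, 3, 0, 2, 0, 3, 3, 0, 3, 3, 0, 3, 0, 2])))))) (WT.node 100 (WT.node 93 (WT.node 89 (WT.node 87 (WT.leaf [3, 0, 3, 0, 3, 3, 0, 3, 0, 3, 0, 2, 0, 3, 3, 0, 3, 0, 3, 3, 0, 2, 0, 2, 2, 0, 3, 0, 3, 3, 0, 3, 0, 2, 0, 2]) (WT.node 88 (WT.leaf [3, 3, 0, 2, 0, 3, 3, 0, 3, 0, 3, 0, 2, 2, 0, 3, 1, 3, 1, 2, 1, 2, 1, 2, 2, 1, 2, 1, 3, 3, 1, 2, 2, 1, 3, 3]) (WT.leaf [2, 1, 2, 1, 2, 2, 1, 2, 1, 3, 3, 1, 2, 2, 1, 3, 3, 1, 3, 3, 0, 2, 0, 3, 3, 0, 3, 0, 3, 0, 2, 2, 0, 3, 1, 3]))) (WT.node 91 (WT.node 90 (WT.leaf [2, 1, 2,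 2, 1, 2, 1, 3, 3, 1, 2, 2, 1, 3, 3, 1, 3, 3, 0, 2, 0, 3, 3, 0, 3, 0, 3, 0, 2, 2, 0, 3, 1, 3, 1, 2]) (WT.leaf [2, 2, 1, 3, 3, 1, 3, 3, 0, 2, 0, 3, 3, 0, 3, 0, 3, 0, 2, 2, 0, 3, 1, 3, 1, 2, 1, 2, 1, 2, 2, 1, 2, 1, 3, 3])) (WT.node 92 (WT.leaf [3, 1, 2, 1, 2, 1, 2, 2, 1, 2, 1, 3, 3, 1, 2, 2, 1, 3, 3, 1, 3, 3, 0, 2, 0, 3, 3, 0, 3, 0, 3, 0, 2, 2, 0, 3]) (WT.leaf [3, 3, 1, 2, 2, 1, 3, 3, 1, 3, 3, 0, 2, 0, 3, 3, 0, 3, 0, 3, 0, 2, 2, 0, 3, 1, 3, 1, 2, 1, 2, 1, 2, 2, 1, 2])))) (WT.node 96 (WT.node 94 (WT.leaf [3, 3, 1, 3, 3, 0, 2, 0, 3, 3, 0, 3, 0, 3, 0, 2, 2, 0, 3, 1, 3, 1, 2, 1, 2, 1, 2, 2, 1, 2, 1, 3, 3, 1, 2, 2]) (WT.node 95 (WT.leaf [2, 1, 3, 3, 1, 2, 2, 1, 3, 3, 1, 3, 3, 0, 2, 0, 3, 3, 0, 3, 0, 3, 0, 2, 2, 0, 3, 1, 3, 1, 2, 1, 2,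 1, 2, 2]) (WT.leaf [2, 2, 1, 2, 1, 3, 3, 1, 2, 2, 1, 3, 3, 1, 3, 3, 0, 2, 0, 3, 3, 0, 3, 0, 3, 0, 2, 2, 0, 3, 1, 3, 1, 2, 1, 2]))) (WT.node 98 (WT.node 97 (WT.leaf [0, 5]) (WT.leaf [2, 2, 2, 2])) (WT.node 99 (WT.leaf [0, 3, 3, 0, 2, 0, 3, 0, 2, 0, 2, 0, 3, 0, 2, 0, 2, 2, 0, 3, 0, 3, 0, 3, 0, 3, 0, 3, 3, 0, 2, 0, 2, 0, 3, 0]) (WT.leaf [0, 2, 2, 0, 3, 0, 3, 0, 3, 0, 3, 0, 3, 3, 0, 2, 0, 2, 0, 3, 0, 2, 0, 3, 3, 0, 2, 0, 3, 0, 2, 0, 2, 0, 3, 0]))))) (WT.node 107 (WT.node 103 (WT.node 101 (WT.leaf [0, 3, 0, 2, 0, 2, 0, 3, 0, 2, 0, 2, 2, 0, 3, 0, 3, 0, 3, 0, 3, 0, 3, 3, 0, 2, 0, 2, 0, 3, 0, 2, 0, 3, 3, 0]) (WT.node 102 (WT.leaf [0, 3, 0, 3, 0, 3, 0, 3, 0, 3, 3, 0, 2, 0, 2, 0, 3, 0, 2, 0, 3, 3, 0, 2, 0, 3, 0, 2, 0, 2, 0, 3, 0, 2, 0,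 2]) (WT.leaf [2, 0, 3, 0, 3, 0, 3, 3, 0, 2, 0, 3, 0, 3, 3, 0, 3, 3, 0, 2, 0, 3, 3, 0, 3, 3, 0, 3, 0, 3, 0, 3, 3, 0, 3, 3, 0]))) (WT.node 105 (WT.node 104 (WT.leaf [0, 2, 0, 3, 0, 2, 0, 3, 3, 0, 2, 0, 3, 0, 2, 0, 2, 0, 3, 0, 2, 0, 2, 2, 0, 3, 0, 3, 0, 3, 0, 3, 0, 3, 3, 0]) (WT.leaf [0, 3, 0, 3, 0, 3, 3, 0, 3, 0, 3, 0, 2, 0, 3, 3, 0, 3, 0, 3, 3, 0, 2, 0, 2, 2, 0, 3, 0, 3, 3, 0, 3, 0, 2, 0])) (WT.node 106 (WT.leaf [0, 3, 3, 0, 3, 0, 3, 0, 2, 2, 0, 3, 1, 3, 1, 2, 1, 2, 1, 2, 2, 1, 2, 1, 3, 3, 1, 2, 2, 1, 3, 3, 1, 3, 3, 0]) (WT.leaf [1, 3, 3, 1, 3, 3, 0, 2, 0, 3, 3, 0, 3, 0, 3, 0, 2, 2, 0, 3, 1, 3, 1, 2, 1, 2, 1, 2, 2, 1, 2, 1, 3, 3, 1, 2])))) (WT.node 111 (WT.node 109 (WT.node 108 (WT.leaf [0, 2, 0, 3, 0, 3, 3, 0, 3, 0, 2, 2, 0,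 2, 0, 3, 3, 0, 3, 0, 3, 3, 0, 2, 0, 3, 0, 3, 0, 3, 3, 0, 3, 0, 3, 0]) (WT.leaf [2, 1, 3, 3, 1, 3, 3, 0, 2, 0, 3, 3, 0, 3, 0, 3, 0, 2, 2, 0, 3, 1, 3, 1, 2, 1, 2, 1, 2, 2, 1, 2, 1, 3, 3, 1])) (WT.node 110 (WT.leaf [2, 0, 3, 0, 3, 0, 3, 0, 3, 0, 3, 3, 0, 2, 0, 2, 0, 3, 0, 2, 0, 3, 3, 0, 2, 0, 3, 0, 2, 0, 2, 0, 3, 0, 2, 0]) (WT.leaf [0, 3, 0, 2, 0, 2, 2, 0, 3, 0, 3, 0, 3, 0, 3, 0, 3, 3, 0, 2, 0, 2, 0, 3, 0, 2, 0, 3, 3, 0, 2, 0, 3, 0, 2, 0]))) (WT.node 113 (WT.node 112 (WT.leaf [0, 3, 0, 3, 3, 0, 3, 3, 0, 2, 0, 3, 3, 0, 3, 3, 0, 3, 0, 3, 0, 3, 3, 0, 3, 3, 0, 2, 2, 0, 3, 0, 3, 0, 3, 3, 0]) (WT.leaf [0, 3, 3, 0, 3, 0, 3, 0, 2, 2, 0, 3, 3, 0, 3, 3, 0, 3, 0, 3, 0, 3, 3, 0, 3, 3, 0, 2, 0, 3, 3, 0, 3, 3, 0, 3, 0])) (WT.node 114 (WT.leaf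 [0, 3, 0, 3, 3, 0, 3, 0, 2, 2, 0, 2, 0, 3, 3, 0, 3, 0, 3, 3, 0, 2, 0, 3, 0, 3, 0, 3, 3, 0, 3, 0, 3, 0, 2, 0]) (WT.leaf [0, 3, 3, 0, 3, 0, 3, 3, 0, 2, 0, 2, 2, 0, 3, 0, 3, 3, 0, 3, 0, 2, 0, 2, 0, 3, 0, 3, 0, 3, 3, 0, 3, 0, 3, 0])))))))) (WT.node 172 (WT.node 143 (WT.node 129 (WT.node 122 (WT.node 118 (WT.node 116 (WT.leaf [0, 2, 0, 3, 0, 3, 0, 3, 3, 0, 3, 0, 3, 0, 2, 0, 3, 3, 0, 3, 0, 3, 3, 0, 2, 0, 2, 2, 0, 3, 0, 3, 3, 0, 3, 0]) (WT.node 117 (WT.leaf [0, 3, 3, 0, 3, 0, 3, 3, 0, 2, 0, 3, 0, 3, 0, 3, 3, 0, 3, 0, 3, 0, 2, 0, 2, 0, 3, 0, 3, 3, 0, 3, 0, 2, 2, 0]) (WT.leaf [0, 2, 0, 3, 0, 2, 0, 2, 2, 0, 3, 0, 3, 0, 3, 0, 3, 0, 3, 3, 0, 2, 0, 2, 0, 3, 0, 2, 0, 3, 3, 0, 2, 0, 3, 0]))) (WT.node 120 (WT.node 119 (WT.leaf [2, 1, 2, 1, 3,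 3, 1, 2, 2, 1, 3, 3, 1, 3, 3, 0, 2, 0, 3, 3, 0, 3, 0, 3, 0, 2, 2, 0, 3, 1, 3, 1, 2, 1, 2, 1]) (WT.leaf [2, 0, 3, 1, 3, 1, 2, 1, 2, 1, 2, 2, 1, 2, 1, 3, 3, 1, 2, 2, 1, 3, 3, 1, 3, 3, 0, 2, 0, 3, 3, 0, 3, 0, 3, 0])) (WT.node 121 (WT.leaf [0, 3, 3, 0, 3, 3, 0, 3, 0, 3, 0, 3, 3, 0, 3, 3, 0, 2, 2, 0, 3, 0, 3, 0, 3, 3, 0, 2, 0, 3, 0, 3, 3, 0, 3, 3, 0]) (WT.leaf [2, 0, 2, 0, 3, 3, 0, 3, 0, 3, 3, 0, 2, 0, 3, 0, 3, 0, 3, 3, 0, 3, 0, 3, 0, 2, 0, 2, 0, 3, 0, 3, 3, 0, 3, 0])))) (WT.node 125 (WT.node 123 (WT.leaf [0, 2, 0, 3, 3, 0, 3, 0, 3, 3, 0, 2, 0, 3, 0, 3, 0, 3, 3, 0, 3, 0, 3, 0, 2, 0, 2, 0, 3, 0, 3, 3, 0, 3, 0, 2]) (WT.node 124 (WT.leaf [0, 3, 1, 3, 1, 2, 1, 2, 1, 2, 2, 1, 2, 1, 3, 3, 1, 2, 2, 1, 3, 3, 1, 3, 3, 0, 2, 0, 3, 3, 0, 3,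 0, 3, 0, 2]) (WT.leaf [0, 3, 0, 2, 0, 3, 3, 0, 2, 0, 3, 0, 2, 0, 2, 0, 3, 0, 2, 0, 2, 2, 0, 3, 0, 3, 0, 3, 0, 3, 0, 3, 3, 0, 2, 0]))) (WT.node 127 (WT.node 126 (WT.leaf [0, 3, 0, 3, 0, 3, 3, 0, 2, 0, 3, 0, 3, 3, 0, 3, 3, 0, 2, 0, 3, 3, 0, 3, 3, 0, 3, 0, 3, 0, 3, 3, 0, 3, 3, 0, 2]) (WT.leaf [2, 0, 3, 3, 0, 3, 3, 0, 3, 0, 3, 0, 3, 3, 0, 3, 3, 0, 2, 0, 3, 3, 0, 3, 3, 0, 3, 0, 2, 0, 3, 3, 0, 3, 0, 3, 0])) (WT.node 128 (WT.leaf [0, 3, 3, 0, 3, 3, 0, 3, 0, 3, 0, 3, 3, 0, 3, 3, 0, 2, 0, 3, 3, 0, 3, 3, 0, 3, 0, 2, 0, 3, 3, 0, 3, 0, 3, 0, 2]) (WT.leaf [0, 2, 2, 0, 3, 0, 3, 3, 0, 3, 0, 2, 0, 2, 0, 3, 0, 3, 0, 3, 3, 0, 3, 0, 3, 0, 2, 0, 3, 3, 0, 3, 0, 3, 3, 0]))))) (WT.node 136 (WT.node 132 (WT.node 130 (WT.leaf [0, 3, 0, 3, 0, 3, 3, 0,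 3, 0, 3, 0, 2, 0, 2, 0, 3, 0, 3, 3, 0, 3, 0, 2, 2, 0, 2, 0, 3, 3, 0, 3, 0, 3, 3, 0]) (WT.node 131 (WT.leaf [1, 3, 3, 1, 2, 2, 1, 3, 3, 1, 3, 3, 0, 2, 0, 3, 3, 0, 3, 0, 3, 0, 2, 2, 0, 3, 1, 3, 1, 2, 1, 2, 1, 2, 2, 1]) (WT.leaf [0, 3, 0, 3, 3, 0, 3, 0, 2, 0, 2, 0, 3, 0, 3, 0, 3, 3, 0, 3, 0, 3, 0, 2, 0, 3, 3, 0, 3, 0, 3, 3, 0, 2, 0, 2]))) (WT.node 134 (WT.node 133 (WT.leaf [0, 3, 3, 0, 3, 3, 0, 3, 0, 2, 0, 3, 3, 0, 3, 0, 3, 0, 2, 2, 0, 3, 3, 0, 3, 3, 0, 3, 0, 3, 0, 3, 3, 0, 3, 3, 0]) (WT.leaf [1, 2, 2, 1, 2, 1, 3, 3, 1, 2, 2, 1, 3, 3, 1, 3, 3, 0, 2, 0, 3, 3, 0, 3, 0, 3, 0, 2, 2, 0, 3, 1, 3, 1, 2, 1])) (WT.node 135 (WT.leaf [1, 2, 1, 2, 2, 1, 2, 1, 3, 3, 1, 2, 2, 1, 3, 3, 1, 3, 3, 0, 2, 0, 3, 3, 0, 3, 0, 3, 0, 2, 2, 0, 3, 1, 3, 1])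 (WT.leaf [2, 0, 3, 0, 3, 3, 0, 3, 0, 2, 0, 2, 0, 3, 0, 3, 0, 3, 3, 0, 3, 0, 3, 0, 2, 0, 3, 3, 0, 3, 0, 3, 3, 0, 2, 0])))) (WT.node 139 (WT.node 137 (WT.leaf [1, 2, 1, 3, 3, 1, 2, 2, 1, 3, 3, 1, 3, 3, 0, 2, 0, 3, 3, 0, 3, 0, 3, 0, 2, 2, 0, 3, 1, 3, 1, 2, 1, 2, 1, 2]) (WT.node 138 (WT.leaf [0, 3, 0, 3, 0, 2, 2, 0, 3, 3, 0, 3, 3, 0, 3, 0, 3, 0, 3, 3, 0, 3, 3, 0, 2, 0, 3, 3, 0, 3, 3, 0, 3, 0, 2, 0, 3]) (WT.leaf [0, 3, 3, 0, 2, 0, 3, 0, 3, 0, 3, 3, 0, 3, 0, 3, 0, 2, 0, 2, 0, 3, 0, 3, 3, 0, 3, 0, 2, 2, 0, 2, 0, 3, 3, 0]))) (WT.node 141 (WT.node 140 (WT.leaf [3, 0, 2, 0, 3, 0, 3, 3, 0, 3, 3, 0, 2, 0, 3, 3, 0, 3, 3, 0, 3, 0, 3, 0, 3, 3, 0, 3, 3, 0, 2, 2, 0, 3, 0, 3, 0]) (WT.leaf [0, 3, 0, 3, 0, 3, 0, 3, 3, 0, 2, 0, 2, 0, 3, 0, 2, 0,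 3, 3, 0, 2, 0, 3, 0, 2, 0, 2, 0, 3, 0, 2, 0, 2, 2, 0])) (WT.node 142 (WT.leaf [0, 2, 0, 3, 0, 2, 0, 2, 0, 3, 0, 2, 0, 2, 2, 0, 3, 0, 3, 0, 3, 0, 3, 0, 3, 3, 0, 2, 0, 2, 0, 3, 0, 2, 0, 3]) (WT.leaf [0, 2, 0, 2, 2, 0, 3, 0, 3, 0, 3, 0, 3, 0, 3, 3, 0, 2, 0, 2, 0, 3, 0, 2, 0, 3, 3, 0, 2, 0, 3, 0, 2, 0, 2, 0])))))) (WT.node 157 (WT.node 150 (WT.node 146 (WT.node 144 (WT.leaf [0, 2, 0, 2, 0, 3, 0, 2, 0, 2, 2, 0, 3, 0, 3, 0, 3, 0, 3, 0, 3, 3, 0, 2, 0, 2, 0, 3, 0, 2, 0, 3, 3, 0, 2, 0]) (WT.node 145 (WT.leaf [3, 0, 2, 0, 3, 0, 2, 0, 2, 0, 3, 0, 2, 0, 2, 2, 0, 3, 0, 3, 0, 3, 0, 3, 0, 3, 3, 0, 2, 0, 2, 0, 3, 0, 2, 0]) (WT.leaf [0, 3, 0, 3, 0, 2, 0, 2, 0, 3, 0, 3, 3, 0, 3, 0, 2, 2, 0, 2, 0, 3, 3, 0, 3, 0, 3, 3, 0, 2, 0, 3, 0, 3, 0, 3])))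 (WT.node 148 (WT.node 147 (WT.leaf [0, 3, 0, 2, 0, 2, 0, 3, 0, 3, 0, 3, 3, 0, 3, 0, 3, 0, 2, 0, 3, 3, 0, 3, 0, 3, 3, 0, 2, 0, 2, 2, 0, 3, 0, 3]) (WT.leaf [0, 3, 3, 0, 3, 0, 2, 0, 2, 0, 3, 0, 3, 0, 3, 3, 0, 3, 0, 3, 0, 2, 0, 3, 3, 0, 3, 0, 3, 3, 0, 2, 0, 2, 2, 0])) (WT.node 149 (WT.leaf [0, 3, 0, 3, 0, 2, 2, 0, 3, 1, 3, 1, 2, 1, 2, 1, 2, 2, 1, 2, 1, 3, 3, 1, 2, 2, 1, 3, 3, 1, 3, 3, 0, 2, 0, 3]) (WT.leaf [0, 3, 0, 3, 3, 0, 3, 0, 3, 0, 2, 0, 2, 0, 3, 0, 3, 3, 0, 3, 0, 2, 2, 0, 2, 0, 3, 3, 0, 3, 0, 3, 3, 0, 2, 0])))) (WT.node 153 (WT.node 151 (WT.leaf [0, 3, 3, 0, 2, 0, 2, 0, 3, 0, 2, 0, 3, 3, 0, 2, 0, 3, 0, 2, 0, 2, 0, 3, 0, 2, 0, 2, 2, 0, 3, 0, 3, 0, 3, 0]) (WT.node 152 (WT.leaf [0, 3, 0, 2, 2, 0, 2, 0, 3, 3, 0, 3, 0, 3, 3, 0,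 2, 0, 3, 0, 3, 0, 3, 3, 0, 3, 0, 3, 0, 2, 0, 2, 0, 3, 0, 3]) (WT.leaf [0, 3, 3, 0, 2, 0, 3, 3, 0, 3, 3, 0, 3, 0, 3, 0, 3, 3, 0, 3, 3, 0, 2, 2, 0, 3, 0, 3, 0, 3, 3, 0, 2, 0, 3, 0, 3]))) (WT.node 155 (WT.node 154 (WT.leaf [3, 0, 3, 0, 3, 0, 2, 2, 0, 3, 1, 3, 1, 2, 1, 2, 1, 2, 2, 1, 2, 1, 3, 3, 1, 2, 2, 1, 3, 3, 1, 3, 3, 0, 2, 0]) (WT.leaf [0, 3, 0, 3, 3, 0, 2, 0, 2, 2, 0, 3, 0, 3, 3, 0, 3, 0, 2, 0, 2, 0, 3, 0, 3, 0, 3, 3, 0, 3, 0, 3, 0, 2, 0, 3])) (WT.node 156 (WT.leaf [0, 3, 3, 0, 3, 3, 0, 2, 0, 3, 3, 0, 3, 3, 0, 3, 0, 3, 0, 3, 3, 0, 3, 3, 0, 2, 2, 0, 3, 0, 3, 0, 3, 3, 0, 2, 0]) (WT.leaf [3, 0, 3, 0, 3, 0, 2, 2, 0, 3, 3, 0, 3, 3, 0, 3, 0, 3, 0, 3, 3, 0, 3, 3, 0, 2, 0, 3, 3, 0, 3, 3, 0, 3, 0, 2, 0]))))) (WT.node 164 (WT.node 160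 (WT.node 158 (WT.leaf [3, 0, 3, 0, 3, 3, 0, 2, 0, 3, 0, 3, 0, 3, 3, 0, 3, 0, 3, 0, 2, 0, 2, 0, 3, 0, 3, 3, 0, 3, 0, 2, 2, 0, 2, 0]) (WT.node 159 (WT.leaf [3, 0, 3, 0, 3, 3, 0, 2, 0, 2, 2, 0, 3, 0, 3, 3, 0, 3, 0, 2, 0, 2, 0, 3, 0, 3, 0, 3, 3, 0, 3, 0, 3, 0, 2, 0]) (WT.leaf [3, 1, 3, 3, 0, 2, 0, 3, 3, 0, 3, 0, 3, 0, 2, 2, 0, 3, 1, 3, 1, 2, 1, 2, 1, 2, 2, 1, 2, 1, 3, 3, 1, 2, 2, 1]))) (WT.node 162 (WT.node 161 (WT.leaf [0, 2, 0, 3, 3, 0, 2, 0, 3, 0, 2, 0, 2, 0, 3, 0, 2, 0, 2, 2, 0, 3, 0, 3, 0, 3, 0, 3, 0, 3, 3, 0, 2, 0, 2, 0]) (WT.leaf [3, 0, 3, 0, 2, 0, 3, 3, 0, 3, 0, 3, 0, 2, 2, 0, 3, 3, 0, 3, 3, 0, 3, 0, 3, 0, 3, 3, 0, 3, 3, 0, 2, 0, 3, 3, 0])) (WT.node 163 (WT.leaf [0, 3, 3, 0, 3, 0, 3, 0, 3, 3, 0, 3, 3, 0, 2, 2, 0, 3, 0, 3,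 0, 3, 3, 0, 2, 0, 3, 0, 3, 3, 0, 3, 3, 0, 2, 0, 3]) (WT.leaf [0, 3, 3, 0, 2, 0, 2, 2, 0, 3, 0, 3, 3, 0, 3, 0, 2, 0, 2, 0, 3, 0, 3, 0, 3, 3, 0, 3, 0, 3, 0, 2, 0, 3, 3, 0])))) (WT.node 168 (WT.node 166 (WT.node 165 (WT.leaf [0, 2, 0, 3, 3, 0, 3, 3, 0, 3, 0, 2, 0, 3, 3, 0, 3, 0, 3, 0, 2, 2, 0, 3, 3, 0, 3, 3, 0, 3, 0, 3, 0, 3, 3, 0, 3]) (WT.leaf [1, 2, 2, 1, 3, 3, 1, 3, 3, 0, 2, 0, 3, 3, 0, 3, 0, 3, 0, 2, 2, 0, 3, 1, 3, 1, 2, 1, 2, 1, 2, 2, 1, 2, 1, 3])) (WT.node 167 (WT.leaf [0, 2, 0, 3, 3, 0, 3, 0, 3, 0, 2, 2, 0, 3, 1, 3, 1, 2, 1, 2, 1, 2, 2, 1, 2, 1, 3, 3, 1, 2, 2, 1, 3, 3, 1, 3]) (WT.leaf [0, 2, 2, 0, 3, 3, 0, 3, 3, 0, 3, 0, 3, 0, 3, 3, 0, 3, 3, 0, 2, 0, 3, 3, 0, 3, 3, 0, 3, 0, 2, 0, 3, 3, 0, 3, 0]))) (WT.node 170 (WT.node 169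 (WT.leaf [0, 2, 0, 3, 3, 0, 3, 0, 3, 3, 0, 2, 0, 2, 2, 0, 3, 0, 3, 3, 0, 3, 0, 2, 0, 2, 0, 3, 0, 3, 0, 3, 3, 0, 3, 0]) (WT.leaf [3, 0, 3, 0, 3, 0, 2, 0, 2, 0, 3, 0, 3, 3, 0, 3, 0, 2, 2, 0, 2, 0, 3, 3, 0, 3, 0, 3, 3, 0, 2, 0, 3, 0, 3, 0])) (WT.node 171 (WT.leaf [0, 3, 0, 2, 2, 0, 3, 3, 0, 3, 3, 0, 3, 0, 3, 0, 3, 3, 0, 3, 3, 0, 2, 0, 3, 3, 0, 3, 3, 0, 3, 0, 2, 0, 3, 3, 0]) (WT.leaf [0, 3, 0, 2, 0, 3, 3, 0, 3, 0, 3, 0, 2, 2, 0, 3, 3, 0, 3, 3, 0, 3, 0, 3, 0, 3, 3, 0, 3, 3, 0, 2, 0, 3, 3, 0, 3]))))))) (WT.node 201 (WT.node 186 (WT.node 179 (WT.node 175 (WT.node 173 (WT.leaf [1, 3, 3, 0, 2, 0, 3, 3, 0, 3, 0, 3, 0, 2, 2, 0, 3, 1, 3, 1, 2, 1, 2, 1, 2, 2, 1, 2, 1, 3, 3, 1, 2, 2, 1, 3]) (WT.node 174 (WT.leaf [0, 2, 0, 3, 0, 3, 3, 0, 3,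 3, 0, 2, 0, 3, 3, 0, 3, 3, 0, 3, 0, 3, 0, 3, 3, 0, 3, 3, 0, 2, 2, 0, 3, 0, 3, 0, 3]) (WT.leaf [0, 2, 2, 0, 2, 0, 3, 3, 0, 3, 0, 3, 3, 0, 2, 0, 3, 0, 3, 0, 3, 3, 0, 3, 0, 3, 0, 2, 0, 2, 0, 3, 0, 3, 3, 0]))) (WT.node 177 (WT.node 176 (WT.leaf [3, 0, 3, 0, 2, 0, 2, 0, 3, 0, 3, 0, 3, 3, 0, 3, 0, 3, 0, 2, 0, 3, 3, 0, 3, 0, 3, 3, 0, 2, 0, 2, 2, 0, 3, 0]) (WT.leaf [0, 3, 3, 0, 3, 0, 2, 0, 3, 3, 0, 3, 0, 3, 0, 2, 2, 0, 3, 3, 0, 3, 3, 0, 3, 0, 3, 0, 3, 3, 0, 3, 3, 0, 2, 0, 3])) (WT.node 178 (WT.leaf [0, 3, 3, 0, 2, 0, 3, 0, 3, 3, 0, 3, 3, 0, 2, 0, 3, 3, 0, 3, 3, 0, 3, 0, 3, 0, 3, 3, 0, 3, 3, 0, 2, 2, 0, 3, 0]) (WT.leaf [0, 2, 0, 2, 0, 3, 0, 2, 0, 3, 3, 0, 2, 0, 3, 0, 2, 0, 2, 0, 3, 0, 2, 0, 2, 2, 0, 3, 0, 3, 0, 3, 0, 3, 0, 3])))) (WT.node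 182 (WT.node 180 (WT.leaf [0, 3, 0, 3, 0, 3, 3, 0, 3, 3, 0, 2, 0, 3, 3, 0, 3, 3, 0, 3, 0, 2, 0, 3, 3, 0, 3, 0, 3, 0, 2, 2, 0, 3, 3, 0, 3]) (WT.node 181 (WT.leaf [1, 3, 1, 2, 1, 2, 1, 2, 2, 1, 2, 1, 3, 3, 1, 2, 2, 1, 3, 3, 1, 3, 3, 0, 2, 0, 3, 3, 0, 3, 0, 3, 0, 2, 2, 0]) (WT.leaf [0, 3, 0, 3, 0, 3, 3, 0, 3, 3, 0, 2, 2, 0, 3, 0, 3, 0, 3, 3, 0, 2, 0, 3, 0, 3, 3, 0, 3, 3, 0, 2, 0, 3, 3, 0, 3]))) (WT.node 184 (WT.node 183 (WT.leaf [0, 2, 0, 3, 3, 0, 3, 3, 0, 3, 0, 3, 0, 3, 3, 0, 3, 3, 0, 2, 2, 0, 3, 0, 3, 0, 3, 3, 0, 2, 0, 3, 0, 3, 3, 0, 3]) (WT.leaf [0, 3, 0, 3, 3, 0, 3, 0, 3, 0, 2, 0, 3, 3, 0, 3, 0, 3, 3, 0, 2, 0, 2, 2, 0, 3, 0, 3, 3, 0, 3, 0, 2, 0, 2, 0])) (WT.node 185 (WT.leaf [0, 2, 0, 3, 0, 3, 0, 3, 3, 0, 3, 0, 3, 0, 2, 0, 2,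 0, 3, 0, 3, 3, 0, 3, 0, 2, 2, 0, 2, 0, 3, 3, 0, 3, 0, 3]) (WT.leaf [0, 2, 0, 2, 2, 0, 3, 0, 3, 3, 0, 3, 0, 2, 0, 2, 0, 3, 0, 3, 0, 3, 3, 0, 3, 0, 3, 0, 2, 0, 3, 3, 0, 3, 0, 3]))))) (WT.node 193 (WT.node 189 (WT.node 187 (WT.leaf [0, 3, 0, 3, 3, 0, 2, 0, 3, 0, 3, 0, 3, 3, 0, 3, 0, 3, 0, 2, 0, 2, 0, 3, 0, 3, 3, 0, 3, 0, 2, 2, 0, 2, 0, 3]) (WT.node 188 (WT.leaf [0, 3, 3, 0, 3, 0, 3, 0, 2, 0, 2, 0, 3, 0, 3, 3, 0, 3, 0, 2, 2, 0, 2, 0, 3, 3, 0, 3, 0, 3, 3, 0, 2, 0, 3, 0]) (WT.leaf [3, 0, 3, 0, 2, 2, 0, 2, 0, 3, 3, 0, 3, 0, 3, 3, 0, 2, 0, 3, 0, 3, 0, 3, 3, 0, 3, 0, 3, 0, 2, 0, 2, 0, 3, 0]))) (WT.node 191 (WT.node 190 (WT.leaf [0, 3, 3, 0, 3, 0, 2, 2, 0, 2, 0, 3, 3, 0, 3, 0, 3, 3, 0, 2, 0, 3, 0, 3, 0, 3, 3, 0, 3, 0, 3, 0, 2, 0, 2, 0])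 (WT.leaf [3, 0, 3, 3, 0, 3, 0, 2, 0, 3, 3, 0, 3, 0, 3, 0, 2, 2, 0, 3, 3, 0, 3, 3, 0, 3, 0, 3, 0, 3, 3, 0, 3, 3, 0, 2, 0])) (WT.node 192 (WT.leaf [0, 3, 3, 0, 2, 2, 0, 3, 0, 3, 0, 3, 3, 0, 2, 0, 3, 0, 3, 3, 0, 3, 3, 0, 2, 0, 3, 3, 0, 3, 3, 0, 3, 0, 3, 0, 3]) (WT.leaf [3, 0, 2, 0, 3, 3, 0, 3, 3, 0, 3, 0, 3, 0, 3, 3, 0, 3, 3, 0, 2, 2, 0, 3, 0, 3, 0, 3, 3, 0, 2, 0, 3, 0, 3, 3, 0])))) (WT.node 197 (WT.node 195 (WT.node 194 (WT.leaf [3, 0, 3, 3, 0, 3, 0, 3, 0, 3, 3, 0, 3, 3, 0, 2, 0, 3, 3, 0, 3, 3, 0, 3, 0, 2, 0, 3, 3, 0, 3, 0, 3, 0, 2, 2, 0]) (WT.leaf [0, 2, 0, 3, 3, 0, 3, 0, 3, 0, 2, 2, 0, 3, 3, 0, 3, 3, 0, 3, 0, 3, 0, 3, 3, 0, 3, 3, 0, 2, 0, 3, 3, 0, 3, 3, 0])) (WT.node 196 (WT.leaf [0, 2, 2, 0, 3, 0, 3, 0, 3, 3, 0, 2, 0, 3, 0,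 3, 3, 0, 3, 3, 0, 2, 0, 3, 3, 0, 3, 3, 0, 3, 0, 3, 0, 3, 3, 0, 3]) (WT.leaf [0, 3, 0, 3, 3, 0, 2, 0, 2, 0, 3, 0, 2, 0, 3, 3, 0, 2, 0, 3, 0, 2, 0, 2, 0, 3, 0, 2, 0, 2, 2, 0, 3, 0, 3, 0]))) (WT.node 199 (WT.node 198 (WT.leaf [3, 0, 2, 0, 3, 0, 3, 0, 3, 3, 0, 3, 0, 3, 0, 2, 0, 2, 0, 3, 0, 3, 3, 0, 3, 0, 2, 2, 0, 2, 0, 3, 3, 0, 3, 0]) (WT.leaf [0, 3, 3, 0, 3, 3, 0, 2, 2, 0, 3, 0, 3, 0, 3, 3, 0, 2, 0, 3, 0, 3, 3, 0, 3, 3, 0, 2, 0, 3, 3, 0, 3, 3, 0, 3, 0])) (WT.node 200 (WT.leaf [3, 0, 3, 0, 3, 0, 2, 0, 3, 3, 0, 3, 0, 3, 3, 0, 2, 0, 2, 2, 0, 3, 0, 3, 3, 0, 3, 0, 2, 0, 2, 0, 3, 0, 3, 0]) (WT.leaf [0, 3, 3, 0, 3, 0, 3, 0, 2, 0, 3, 3, 0, 3, 0, 3, 3, 0, 2, 0, 2, 2, 0, 3, 0, 3, 3, 0, 3, 0, 2, 0, 2, 0, 3, 0])))))) (WT.node 215 (WT.node 208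 (WT.node 204 (WT.node 202 (WT.leaf [0, 3, 3, 0, 2, 0, 3, 3, 0, 3, 3, 0, 3, 0, 2, 0, 3, 3, 0, 3, 0, 3, 0, 2, 2, 0, 3, 3, 0, 3, 3, 0, 3, 0, 3, 0, 3]) (WT.node 203 (WT.leaf [0, 3, 0, 3, 0, 2, 0, 3, 3, 0, 3, 0, 3, 3, 0, 2, 0, 2, 2, 0, 3, 0, 3, 3, 0, 3, 0, 2, 0, 2, 0, 3, 0, 3, 0, 3]) (WT.leaf [0, 3, 3, 0, 3, 0, 3, 0, 3, 3, 0, 3, 3, 0, 2, 0, 3, 3, 0, 3, 3, 0, 3, 0, 2, 0, 3, 3, 0, 3, 0, 3, 0, 2, 2, 0, 3]))) (WT.node 206 (WT.node 205 (WT.leaf [0, 2, 0, 2, 0, 3, 0, 3, 0, 3, 3, 0, 3, 0, 3, 0, 2, 0, 3, 3, 0, 3, 0, 3, 3, 0, 2, 0, 2, 2, 0, 3, 0, 3, 3, 0]) (WT.leaf [0, 3, 0, 3, 3, 0, 2, 0, 3, 0, 3, 3, 0, 3, 3, 0, 2, 0, 3, 3, 0, 3, 3, 0, 3, 0, 3, 0, 3, 3, 0, 3, 3, 0, 2, 2, 0])) (WT.node 207 (WT.leaf [3, 0, 3, 3, 0, 2, 2, 0, 3, 0, 3, 0, 3, 3,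 0, 2, 0, 3, 0, 3, 3, 0, 3, 3, 0, 2, 0, 3, 3, 0, 3, 3, 0, 3, 0, 3, 0]) (WT.leaf [3, 0, 2, 0, 3, 3, 0, 3, 0, 3, 0, 2, 2, 0, 3, 1, 3, 1, 2, 1, 2, 1, 2, 2, 1, 2, 1, 3, 3, 1, 2, 2, 1, 3, 3, 1])))) (WT.node 211 (WT.node 209 (WT.leaf [0, 3, 3, 0, 3, 3, 0, 2, 0, 3, 3, 0, 3, 3, 0, 3, 0, 2, 0, 3, 3, 0, 3, 0, 3, 0, 2, 2, 0, 3, 3, 0, 3, 3, 0, 3, 0]) (WT.node 210 (WT.leaf [3, 0, 3, 0, 3, 0, 3, 3, 0, 3, 3, 0, 2, 2, 0, 3, 0, 3, 0, 3, 3, 0, 2, 0, 3, 0, 3, 3, 0, 3, 3, 0, 2, 0, 3, 3, 0]) (WT.leaf [3, 0, 2, 2, 0, 3, 0, 3, 0, 3, 3, 0, 2, 0, 3, 0, 3, 3, 0, 3, 3, 0, 2, 0, 3, 3, 0, 3, 3, 0, 3, 0, 3, 0, 3, 3, 0]))) (WT.node 213 (WT.node 212 (WT.leaf [0, 3, 0, 2, 0, 3, 3, 0, 3, 0, 3, 3, 0, 2, 0, 2, 2, 0, 3, 0, 3, 3, 0, 3, 0, 2, 0, 2, 0, 3, 0, 3, 0, 3,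 3, 0]) (WT.leaf [3, 0, 3, 0, 3, 0, 3, 3, 0, 3, 3, 0, 2, 0, 3, 3, 0, 3, 3, 0, 3, 0, 2, 0, 3, 3, 0, 3, 0, 3, 0, 2, 2, 0, 3, 3, 0])) (WT.node 214 (WT.leaf [0, 3, 0, 2, 0, 2, 0, 3, 0, 3, 3, 0, 3, 0, 2, 2, 0, 2, 0, 3, 3, 0, 3, 0, 3, 3, 0, 2, 0, 3, 0, 3, 0, 3, 3, 0]) (WT.leaf [0, 2, 0, 2, 0, 3, 0, 3, 3, 0, 3, 0, 2, 2, 0, 2, 0, 3, 3, 0, 3, 0, 3, 3, 0, 2, 0, 3, 0, 3, 0, 3, 3, 0, 3, 0]))))) (WT.node 222 (WT.node 218 (WT.node 216 (WT.leaf [0, 2, 2, 0, 3, 1, 3, 1, 2, 1, 2, 1, 2, 2, 1, 2, 1, 3, 3, 1, 2, 2, 1, 3, 3, 1, 3, 3, 0, 2, 0, 3, 3, 0, 3, 0]) (WT.node 217 (WT.leaf [3, 0, 3, 3, 0, 3, 0, 3, 0, 3, 3, 0, 3, 3, 0, 2, 2, 0, 3, 0, 3, 0, 3, 3, 0, 2, 0, 3, 0, 3, 3, 0, 3, 3, 0, 2, 0]) (WT.leaf [3, 1, 2, 2, 1, 3, 3, 1, 3, 3, 0, 2, 0, 3, 3, 0,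 3, 0, 3, 0, 2, 2, 0, 3, 1, 3, 1, 2, 1, 2, 1, 2, 2, 1, 2, 1]))) (WT.node 220 (WT.node 219 (WT.leaf [3, 0, 3, 3, 0, 2, 0, 3, 3, 0, 3, 3, 0, 3, 0, 3, 0, 3, 3, 0, 3, 3, 0, 2, 2, 0, 3, 0, 3, 0, 3, 3, 0, 2, 0, 3, 0]) (WT.leaf [3, 0, 2, 0, 2, 0, 3, 0, 2, 0, 3, 3, 0, 2, 0, 3, 0, 2, 0, 2, 0, 3, 0, 2, 0, 2, 2, 0, 3, 0, 3, 0, 3, 0, 3, 0])) (WT.node 221 (WT.leaf [0, 3, 0, 3, 0, 3, 3, 0, 2, 0, 2, 0, 3, 0, 2, 0, 3, 3, 0, 2, 0, 3, 0, 2, 0, 2, 0, 3, 0, 2, 0, 2, 2, 0, 3, 0]) (WT.leaf [3, 0, 3, 3, 0, 2, 0, 3, 3, 0, 3, 3, 0, 3, 0, 2, 0, 3, 3, 0, 3, 0, 3, 0, 2, 2, 0, 3, 3, 0, 3, 3, 0, 3, 0, 3, 0])))) (WT.node 226 (WT.node 224 (WT.node 223 (WT.leaf [3, 0, 2, 0, 3, 3, 0, 3, 3, 0, 3, 0, 2, 0, 3, 3, 0, 3, 0, 3, 0, 2, 2, 0, 3, 3, 0, 3, 3, 0, 3, 0, 3,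 0, 3, 3, 0]) (WT.leaf [0, 3, 0, 2, 2, 0, 3, 1, 3, 1, 2, 1, 2, 1, 2, 2, 1, 2, 1, 3, 3, 1, 2, 2, 1, 3, 3, 1, 3, 3, 0, 2, 0, 3, 3, 0])) (WT.node 225 (WT.leaf [1, 2, 1, 2, 1, 2, 2, 1, 2, 1, 3, 3, 1, 2, 2, 1, 3, 3, 1, 3, 3, 0, 2, 0, 3, 3, 0, 3, 0, 3, 0, 2, 2, 0, 3, 1]) (WT.leaf [0, 3, 0, 3, 3, 0, 3, 3, 0, 2, 2, 0, 3, 0, 3, 0, 3, 3, 0, 2, 0, 3, 0, 3, 3, 0, 3, 3, 0, 2, 0, 3, 3, 0, 3, 3, 0]))) (WT.node 228 (WT.node 227 (WT.leaf [3, 0, 2, 0, 2, 2, 0, 3, 0, 3, 3, 0, 3, 0, 2, 0, 2, 0, 3, 0, 3, 0, 3, 3, 0, 3, 0, 3, 0, 2, 0, 3, 3, 0, 3, 0]) (WT.leaf [0, 3, 0, 3, 3, 0, 3, 3, 0, 2, 0, 3, 3, 0, 3, 3, 0, 3, 0, 2, 0, 3, 3, 0, 3, 0, 3, 0, 2, 2, 0, 3, 3, 0, 3, 3, 0])) (WT.node 229 (WT.leaf [4, 4, 4, 4, 4, 4]) (WT.leaf [2, 0])))))))))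

/-- The labels of the rotated relators, packed. -/
noncomputable def rotANT : BT := (BT.node 115 (BT.node 57 (BT.node 28 (BT.node 14 (BT.node 7 (BT.node 3 (BT.node 1 (BT.leaf 1) (BT.node 2 (BT.leaf 0) (BT.leaf 0))) (BT.node 5 (BT.node 4 (BT.leaf 1073741824) (BT.leaf 1152921504606846976)) (BT.node 6 (BT.leaf 1073741824) (BT.leaf 1152921504606846976)))) (BT.node 10 (BT.node 8 (BT.leaf 1152921504606846976) (BT.node 9 (BT.leaf 1152921504606846976) (BT.leaf 1152921504606846976))) (BT.node 12 (BT.node 11 (BT.leaf 1152921504606846976) (BT.leaf 1073741824)) (BT.node 13 (BT.leaf 35184372088832) (BT.leaf 37778931862957161709568))))) (BT.node 21 (BT.node 17 (BT.node 15 (BT.leaf 1073741824) (BT.node 16 (BT.leaf 35184372088832) (BT.leaf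 1073741824))) (BT.node 19 (BT.node 18 (BT.leaf 1152921504606846976) (BT.leaf 35184372088832)) (BT.node 20 (BT.leaf 1152921504606846976) (BT.leaf 35184372088832)))) (BT.node 24 (BT.node 22 (BT.leaf 0) (BT.node 23 (BT.leaf 1073741824) (BT.leaf 1152921504606846976))) (BT.node 26 (BT.node 25 (BT.leaf 35184372088832) (BT.leaf 35184372088832)) (BT.node 27 (BT.leaf 1073741824) (BT.leaf 1073741824)))))) (BT.node 42 (BT.node 35 (BT.node 31 (BT.node 29 (BT.leaf 35184372088832) (BT.node 30 (BT.leaf 1073741824) (BT.leaf 1152921504606846976))) (BT.node 33 (BT.node 32 (BT.leaf 37778931862957161709568) (BT.leaf 35184372088832)) (BT.node 34 (BT.leaf 1152921504606846976) (BT.leaf 37778931862957161709568)))) (BT.node 38 (BT.node 36 (BT.leaf 35184372088832)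 (BT.node 37 (BT.leaf 0) (BT.leaf 1152921504606846976))) (BT.node 40 (BT.node 39 (BT.leaf 35184372088832) (BT.leaf 35184372088832)) (BT.node 41 (BT.leaf 1073741824) (BT.leaf 37778931862957161709568))))) (BT.node 49 (BT.node 45 (BT.node 43 (BT.leaf 1237940039285380274899124224) (BT.node 44 (BT.leaf 1237940039285380274899124224) (BT.leaf 1073741824))) (BT.node 47 (BT.node 46 (BT.leaf 37778931862957161709568) (BT.leaf 0)) (BT.node 48 (BT.leaf 35184372088832) (BT.leaf 37778931862957161709568)))) (BT.node 53 (BT.node 51 (BT.node 50 (BT.leaf 1073741824) (BT.leaf 37778931862957161709568)) (BT.node 52 (BT.leaf 1073741824) (BT.leaf 1237940039285380274899124224))) (BT.node 55 (BT.node 54 (BT.leaf 1237940039285380274899124224) (BT.leaf 35184372088832))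 (BT.node 56 (BT.leaf 1237940039285380274899124224) (BT.leaf 37778931862957161709568))))))) (BT.node 86 (BT.node 71 (BT.node 64 (BT.node 60 (BT.node 58 (BT.leaf 0) (BT.node 59 (BT.leaf 1237940039285380274899124224) (BT.leaf 37778931862957161709568))) (BT.node 62 (BT.node 61 (BT.leaf 1237940039285380274899124224) (BT.leaf 1237940039285380274899124224)) (BT.node 63 (BT.leaf 37778931862957161709568) (BT.leaf 1237940039285380274899124224)))) (BT.node 67 (BT.node 65 (BT.leaf 1152921504606846976) (BT.node 66 (BT.leaf 37778931862957161709568) (BT.leaf 1237940039285380274899124224))) (BT.node 69 (BT.node 68 (BT.leaf 37778931862957161709568) (BT.leaf 1152921504606846976)) (BT.node 70 (BT.leaf 1237940039285380274899124224) (BT.leaf 1152921504606846976)))))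 (BT.node 78 (BT.node 74 (BT.node 72 (BT.leaf 1237940039285380274899124224) (BT.node 73 (BT.leaf 1237940039285380274899124224) (BT.leaf 1073741824))) (BT.node 76 (BT.node 75 (BT.leaf 35184372088832) (BT.leaf 1152921504606846976)) (BT.node 77 (BT.leaf 35184372088832) (BT.leaf 1073741824)))) (BT.node 82 (BT.node 80 (BT.node 79 (BT.leaf 35184372088832) (BT.leaf 37778931862957161709568)) (BT.node 81 (BT.leaf 1152921504606846976) (BT.leaf 37778931862957161709568))) (BT.node 84 (BT.node 83 (BT.leaf 1237940039285380274899124224) (BT.leaf 37778931862957161709568)) (BT.node 85 (BT.leaf 0) (BT.leaf 1237940039285380274899124224)))))) (BT.node 100 (BT.node 93 (BT.node 89 (BT.node 87 (BT.leaf 1073741824) (BT.node 88 (BT.leaf 0) (BT.leaf 0)))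 (BT.node 91 (BT.node 90 (BT.leaf 0) (BT.leaf 0)) (BT.node 92 (BT.leaf 0) (BT.leaf 0)))) (BT.node 96 (BT.node 94 (BT.leaf 0) (BT.node 95 (BT.leaf 0) (BT.leaf 0))) (BT.node 98 (BT.node 97 (BT.leaf 0) (BT.leaf 32768)) (BT.node 99 (BT.leaf 1152921504606846976) (BT.leaf 1152921504606846976))))) (BT.node 107 (BT.node 103 (BT.node 101 (BT.leaf 1152921504606846976) (BT.node 102 (BT.leaf 1152921504606846976) (BT.leaf 37778931862957161709568))) (BT.node 105 (BT.node 104 (BT.leaf 1152921504606846976) (BT.leaf 1073741824)) (BT.node 106 (BT.leaf 0) (BT.leaf 0)))) (BT.node 111 (BT.node 109 (BT.node 108 (BT.leaf 35184372088832) (BT.leaf 0)) (BT.node 110 (BT.leaf 1152921504606846976) (BT.leaf 1152921504606846976))) (BT.node 113 (BT.node 112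 (BT.leaf 37778931862957161709568) (BT.leaf 1237940039285380274899124224)) (BT.node 114 (BT.leaf 35184372088832) (BT.leaf 1073741824)))))))) (BT.node 172 (BT.node 143 (BT.node 129 (BT.node 122 (BT.node 118 (BT.node 116 (BT.leaf 1073741824) (BT.node 117 (BT.leaf 35184372088832) (BT.leaf 1152921504606846976))) (BT.node 120 (BT.node 119 (BT.leaf 0) (BT.leaf 0)) (BT.node 121 (BT.leaf 37778931862957161709568) (BT.leaf 35184372088832)))) (BT.node 125 (BT.node 123 (BT.leaf 35184372088832) (BT.node 124 (BT.leaf 0) (BT.leaf 1152921504606846976))) (BT.node 127 (BT.node 126 (BT.leaf 37778931862957161709568) (BT.leaf 1237940039285380274899124224)) (BT.node 128 (BT.leaf 1237940039285380274899124224) (BT.leaf 1073741824))))) (BT.node 136 (BT.node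 132 (BT.node 130 (BT.leaf 35184372088832) (BT.node 131 (BT.leaf 0) (BT.leaf 1073741824))) (BT.node 134 (BT.node 133 (BT.leaf 1237940039285380274899124224) (BT.leaf 0)) (BT.node 135 (BT.leaf 0) (BT.leaf 1073741824)))) (BT.node 139 (BT.node 137 (BT.leaf 0) (BT.node 138 (BT.leaf 1237940039285380274899124224) (BT.leaf 35184372088832))) (BT.node 141 (BT.node 140 (BT.leaf 37778931862957161709568) (BT.leaf 1152921504606846976)) (BT.node 142 (BT.leaf 1152921504606846976) (BT.leaf 1152921504606846976)))))) (BT.node 157 (BT.node 150 (BT.node 146 (BT.node 144 (BT.leaf 1152921504606846976) (BT.node 145 (BT.leaf 1152921504606846976) (BT.leaf 35184372088832))) (BT.node 148 (BT.node 147 (BT.leaf 1073741824) (BT.leaf 1073741824)) (BT.node 149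 (BT.leaf 0) (BT.leaf 35184372088832)))) (BT.node 153 (BT.node 151 (BT.leaf 1152921504606846976) (BT.node 152 (BT.leaf 35184372088832) (BT.leaf 37778931862957161709568))) (BT.node 155 (BT.node 154 (BT.leaf 0) (BT.leaf 1073741824)) (BT.node 156 (BT.leaf 37778931862957161709568) (BT.leaf 1237940039285380274899124224))))) (BT.node 164 (BT.node 160 (BT.node 158 (BT.leaf 35184372088832) (BT.node 159 (BT.leaf 1073741824) (BT.leaf 0))) (BT.node 162 (BT.node 161 (BT.leaf 1152921504606846976) (BT.leaf 1237940039285380274899124224)) (BT.node 163 (BT.leaf 37778931862957161709568) (BT.leaf 1073741824)))) (BT.node 168 (BT.node 166 (BT.node 165 (BT.leaf 1237940039285380274899124224) (BT.leaf 0)) (BT.node 167 (BT.leaf 0) (BT.leaf 1237940039285380274899124224)))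 (BT.node 170 (BT.node 169 (BT.leaf 1073741824) (BT.leaf 35184372088832)) (BT.node 171 (BT.leaf 1237940039285380274899124224) (BT.leaf 1237940039285380274899124224))))))) (BT.node 201 (BT.node 186 (BT.node 179 (BT.node 175 (BT.node 173 (BT.leaf 0) (BT.node 174 (BT.leaf 37778931862957161709568) (BT.leaf 35184372088832))) (BT.node 177 (BT.node 176 (BT.leaf 1073741824) (BT.leaf 1237940039285380274899124224)) (BT.node 178 (BT.leaf 37778931862957161709568) (BT.leaf 1152921504606846976)))) (BT.node 182 (BT.node 180 (BT.leaf 1237940039285380274899124224) (BT.node 181 (BT.leaf 0) (BT.leaf 37778931862957161709568))) (BT.node 184 (BT.node 183 (BT.leaf 37778931862957161709568) (BT.leaf 1073741824)) (BT.node 185 (BT.leaf 35184372088832) (BT.leaf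 1073741824))))) (BT.node 193 (BT.node 189 (BT.node 187 (BT.leaf 35184372088832) (BT.node 188 (BT.leaf 35184372088832) (BT.leaf 35184372088832))) (BT.node 191 (BT.node 190 (BT.leaf 35184372088832) (BT.leaf 1237940039285380274899124224)) (BT.node 192 (BT.leaf 37778931862957161709568) (BT.leaf 37778931862957161709568)))) (BT.node 197 (BT.node 195 (BT.node 194 (BT.leaf 1237940039285380274899124224) (BT.leaf 1237940039285380274899124224)) (BT.node 196 (BT.leaf 37778931862957161709568) (BT.leaf 1152921504606846976))) (BT.node 199 (BT.node 198 (BT.leaf 35184372088832) (BT.leaf 37778931862957161709568)) (BT.node 200 (BT.leaf 1073741824) (BT.leaf 1073741824)))))) (BT.node 215 (BT.node 208 (BT.node 204 (BT.node 202 (BT.leaf 1237940039285380274899124224)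 (BT.node 203 (BT.leaf 1073741824) (BT.leaf 1237940039285380274899124224))) (BT.node 206 (BT.node 205 (BT.leaf 1073741824) (BT.leaf 37778931862957161709568)) (BT.node 207 (BT.leaf 37778931862957161709568) (BT.leaf 0)))) (BT.node 211 (BT.node 209 (BT.leaf 1237940039285380274899124224) (BT.node 210 (BT.leaf 37778931862957161709568) (BT.leaf 37778931862957161709568))) (BT.node 213 (BT.node 212 (BT.leaf 1073741824) (BT.leaf 1237940039285380274899124224)) (BT.node 214 (BT.leaf 35184372088832) (BT.leaf 35184372088832))))) (BT.node 222 (BT.node 218 (BT.node 216 (BT.leaf 0) (BT.node 217 (BT.leaf 37778931862957161709568) (BT.leaf 0))) (BT.node 220 (BT.node 219 (BT.leaf 37778931862957161709568) (BT.leaf 1152921504606846976)) (BT.node 221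 (BT.leaf 1152921504606846976) (BT.leaf 1237940039285380274899124224)))) (BT.node 226 (BT.node 224 (BT.node 223 (BT.leaf 1237940039285380274899124224) (BT.leaf 0)) (BT.node 225 (BT.leaf 0) (BT.leaf 37778931862957161709568))) (BT.node 228 (BT.node 227 (BT.leaf 1073741824) (BT.leaf 1237940039285380274899124224)) (BT.node 229 (BT.leaf 0) (BT.leaf 0)))))))))

/-- The heads of the rotated relators. -/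
noncomputable def rotHT : BT := (BT.node 115 (BT.node 57 (BT.node 28 (BT.node 14 (BT.node 7 (BT.node 3 (BT.node 1 (BT.leaf 0) (BT.node 2 (BT.leaf 0) (BT.leaf 0))) (BT.node 5 (BT.node 4 (BT.leaf 0) (BT.leaf 0)) (BT.node 6 (BT.leaf 0) (BT.leaf 0)))) (BT.node 10 (BT.node 8 (BT.leaf 0) (BT.node 9 (BT.leaf 0) (BT.leaf 0))) (BT.node 12 (BT.node 11 (BT.leaf 0) (BT.leaf 0)) (BT.node 13 (BT.leaf 0) (BT.leaf 0))))) (BT.node 21 (BT.node 17 (BT.node 15 (BT.leaf 0) (BT.node 16 (BT.leaf 0) (BT.leaf 0))) (BT.node 19 (BT.node 18 (BT.leaf 0) (BT.leaf 0)) (BT.node 20 (BT.leaf 0) (BT.leaf 0)))) (BT.node 24 (BT.node 22 (BT.leaf 0) (BT.node 23 (BT.leaf 0) (BT.leaf 0))) (BT.node 26 (BT.node 25 (BT.leaf 0) (BT.leaf 0)) (BT.node 27 (BT.leaf 0) (BT.leaf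 0)))))) (BT.node 42 (BT.node 35 (BT.node 31 (BT.node 29 (BT.leaf 0) (BT.node 30 (BT.leaf 0) (BT.leaf 0))) (BT.node 33 (BT.node 32 (BT.leaf 0) (BT.leaf 0)) (BT.node 34 (BT.leaf 0) (BT.leaf 0)))) (BT.node 38 (BT.node 36 (BT.leaf 0) (BT.node 37 (BT.leaf 0) (BT.leaf 0))) (BT.node 40 (BT.node 39 (BT.leaf 0) (BT.leaf 0)) (BT.node 41 (BT.leaf 0) (BT.leaf 0))))) (BT.node 49 (BT.node 45 (BT.node 43 (BT.leaf 0) (BT.node 44 (BT.leaf 0) (BT.leaf 0))) (BT.node 47 (BT.node 46 (BT.leaf 0) (BT.leaf 0)) (BT.node 48 (BT.leaf 0) (BT.leaf 0)))) (BT.node 53 (BT.node 51 (BT.node 50 (BT.leaf 0) (BT.leaf 0)) (BT.node 52 (BT.leaf 0) (BT.leaf 0))) (BT.node 55 (BT.node 54 (BT.leaf 0) (BT.leaf 0)) (BT.node 56 (BT.leaf 0) (BT.leaf 0))))))) (BT.node 86 (BT.node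 71 (BT.node 64 (BT.node 60 (BT.node 58 (BT.leaf 0) (BT.node 59 (BT.leaf 0) (BT.leaf 0))) (BT.node 62 (BT.node 61 (BT.leaf 0) (BT.leaf 0)) (BT.node 63 (BT.leaf 0) (BT.leaf 0)))) (BT.node 67 (BT.node 65 (BT.leaf 0) (BT.node 66 (BT.leaf 0) (BT.leaf 0))) (BT.node 69 (BT.node 68 (BT.leaf 0) (BT.leaf 0)) (BT.node 70 (BT.leaf 0) (BT.leaf 0))))) (BT.node 78 (BT.node 74 (BT.node 72 (BT.leaf 0) (BT.node 73 (BT.leaf 0) (BT.leaf 0))) (BT.node 76 (BT.node 75 (BT.leaf 0) (BT.leaf 0)) (BT.node 77 (BT.leaf 0) (BT.leaf 0)))) (BT.node 82 (BT.node 80 (BT.node 79 (BT.leaf 0) (BT.leaf 0)) (BT.node 81 (BT.leaf 0) (BT.leaf 0))) (BT.node 84 (BT.node 83 (BT.leaf 0) (BT.leaf 0)) (BT.node 85 (BT.leaf 0) (BT.leaf 0)))))) (BT.node 100 (BT.node 93 (BT.node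 89 (BT.node 87 (BT.leaf 0) (BT.node 88 (BT.leaf 1) (BT.leaf 1))) (BT.node 91 (BT.node 90 (BT.leaf 1) (BT.leaf 1)) (BT.node 92 (BT.leaf 1) (BT.leaf 1)))) (BT.node 96 (BT.node 94 (BT.leaf 1) (BT.node 95 (BT.leaf 1) (BT.leaf 1))) (BT.node 98 (BT.node 97 (BT.leaf 2) (BT.leaf 2)) (BT.node 99 (BT.leaf 2) (BT.leaf 2))))) (BT.node 107 (BT.node 103 (BT.node 101 (BT.leaf 2) (BT.node 102 (BT.leaf 2) (BT.leaf 2))) (BT.node 105 (BT.node 104 (BT.leaf 2) (BT.leaf 2)) (BT.node 106 (BT.leaf 2) (BT.leaf 2)))) (BT.node 111 (BT.node 109 (BT.node 108 (BT.leaf 2) (BT.leaf 2)) (BT.node 110 (BT.leaf 2) (BT.leaf 2))) (BT.node 113 (BT.node 112 (BT.leaf 2) (BT.leaf 2)) (BT.node 114 (BT.leaf 2) (BT.leaf 2)))))))) (BT.node 172 (BT.node 143 (BT.node 129 (BT.node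 122 (BT.node 118 (BT.node 116 (BT.leaf 2) (BT.node 117 (BT.leaf 2) (BT.leaf 2))) (BT.node 120 (BT.node 119 (BT.leaf 2) (BT.leaf 2)) (BT.node 121 (BT.leaf 2) (BT.leaf 2)))) (BT.node 125 (BT.node 123 (BT.leaf 2) (BT.node 124 (BT.leaf 2) (BT.leaf 2))) (BT.node 127 (BT.node 126 (BT.leaf 2) (BT.leaf 2)) (BT.node 128 (BT.leaf 2) (BT.leaf 2))))) (BT.node 136 (BT.node 132 (BT.node 130 (BT.leaf 2) (BT.node 131 (BT.leaf 2) (BT.leaf 2))) (BT.node 134 (BT.node 133 (BT.leaf 2) (BT.leaf 2)) (BT.node 135 (BT.leaf 2) (BT.leaf 2)))) (BT.node 139 (BT.node 137 (BT.leaf 2) (BT.node 138 (BT.leaf 3) (BT.leaf 3))) (BT.node 141 (BT.node 140 (BT.leaf 3) (BT.leaf 3)) (BT.node 142 (BT.leaf 3) (BT.leaf 3)))))) (BT.node 157 (BT.node 150 (BT.node 146 (BT.node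 144 (BT.leaf 3) (BT.node 145 (BT.leaf 3) (BT.leaf 3))) (BT.node 148 (BT.node 147 (BT.leaf 3) (BT.leaf 3)) (BT.node 149 (BT.leaf 3) (BT.leaf 3)))) (BT.node 153 (BT.node 151 (BT.leaf 3) (BT.node 152 (BT.leaf 3) (BT.leaf 3))) (BT.node 155 (BT.node 154 (BT.leaf 3) (BT.leaf 3)) (BT.node 156 (BT.leaf 3) (BT.leaf 3))))) (BT.node 164 (BT.node 160 (BT.node 158 (BT.leaf 3) (BT.node 159 (BT.leaf 3) (BT.leaf 3))) (BT.node 162 (BT.node 161 (BT.leaf 3) (BT.leaf 3)) (BT.node 163 (BT.leaf 3) (BT.leaf 3)))) (BT.node 168 (BT.node 166 (BT.node 165 (BT.leaf 3) (BT.leaf 3)) (BT.node 167 (BT.leaf 3) (BT.leaf 3))) (BT.node 170 (BT.node 169 (BT.leaf 3) (BT.leaf 3)) (BT.node 171 (BT.leaf 3) (BT.leaf 3))))))) (BT.node 201 (BT.node 186 (BT.node 179 (BT.node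 175 (BT.node 173 (BT.leaf 3) (BT.node 174 (BT.leaf 3) (BT.leaf 3))) (BT.node 177 (BT.node 176 (BT.leaf 3) (BT.leaf 3)) (BT.node 178 (BT.leaf 3) (BT.leaf 3)))) (BT.node 182 (BT.node 180 (BT.leaf 3) (BT.node 181 (BT.leaf 3) (BT.leaf 3))) (BT.node 184 (BT.node 183 (BT.leaf 3) (BT.leaf 3)) (BT.node 185 (BT.leaf 3) (BT.leaf 3))))) (BT.node 193 (BT.node 189 (BT.node 187 (BT.leaf 3) (BT.node 188 (BT.leaf 3) (BT.leaf 3))) (BT.node 191 (BT.node 190 (BT.leaf 3) (BT.leaf 3)) (BT.node 192 (BT.leaf 3) (BT.leaf 3)))) (BT.node 197 (BT.node 195 (BT.node 194 (BT.leaf 3) (BT.leaf 3)) (BT.node 196 (BT.leaf 3) (BT.leaf 3))) (BT.node 199 (BT.node 198 (BT.leaf 3) (BT.leaf 3)) (BT.node 200 (BT.leaf 3) (BT.leaf 3)))))) (BT.node 215 (BT.node 208 (BT.node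 204 (BT.node 202 (BT.leaf 3) (BT.node 203 (BT.leaf 3) (BT.leaf 3))) (BT.node 206 (BT.node 205 (BT.leaf 3) (BT.leaf 3)) (BT.node 207 (BT.leaf 3) (BT.leaf 3)))) (BT.node 211 (BT.node 209 (BT.leaf 3) (BT.node 210 (BT.leaf 3) (BT.leaf 3))) (BT.node 213 (BT.node 212 (BT.leaf 3) (BT.leaf 3)) (BT.node 214 (BT.leaf 3) (BT.leaf 3))))) (BT.node 222 (BT.node 218 (BT.node 216 (BT.leaf 3) (BT.node 217 (BT.leaf 3) (BT.leaf 3))) (BT.node 220 (BT.node 219 (BT.leaf 3) (BT.leaf 3)) (BT.node 221 (BT.leaf 3) (BT.leaf 3)))) (BT.node 226 (BT.node 224 (BT.node 223 (BT.leaf 3) (BT.leaf 3)) (BT.node 225 (BT.leaf 3) (BT.leaf 3))) (BT.node 228 (BT.node 227 (BT.leaf 3) (BT.leaf 3)) (BT.node 229 (BT.leaf 4) (BT.leaf 5)))))))))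

/-- The sources of the rotated relators: relator and rotation. -/
def rotSrc : List (ℕ × ℕ) := [(3, 1), (1, 1), (2, 27), (5, 11), (7, 25), (5, 24), (7, 30), (7, 6), (7, 19), (7, 8), (7, 36), (5, 36), (6, 12), (8, 9), (5, 9), (6, 36), (5, 16), (7, 4), (6, 34), (7, 15), (6, 21), (2, 36), (5, 22), (7, 28), (6, 19), (6, 4), (5, 18), (5, 26), (6, 23), (5, 13), (7, 34), (8, 17), (6, 25), (7, 21), (8, 37), (6, 27), (2, 24), (7, 2), (6, 17), (6, 14), (5, 29), (8, 27), (9, 35), (9, 32), (5, 34), (8, 20), (2, 29), (6, 9), (8, 30), (5, 7), (8, 2), (5, 2), (9, 2), (9, 22), (6, 30), (9, 9), (8, 12), (2, 31), (9, 7), (8, 23), (9, 15), (9, 27), (8, 32), (9, 29), (7, 17), (8, 5), (9, 12), (8, 7), (7, 32), (9, 37), (7, 23), (9, 18), (9, 20),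 (5, 31), (6, 32), (7, 10), (6, 2), (5, 4), (6, 7), (8, 15), (7, 13), (8, 25), (9, 5), (8, 34), (2, 34), (9, 25), (5, 20), (2, 2), (2, 20), (2, 18), (2, 8), (2, 22), (2, 11), (2, 5), (2, 13), (2, 16), (1, 2), (4, 1), (7, 29), (7, 14), (7, 24), (7, 11), (8, 36), (7, 35), (5, 21), (2, 35), (2, 6), (6, 22), (2, 7), (7, 12), (7, 18), (8, 26), (9, 26), (6, 20), (5, 8), (5, 23), (6, 8), (7, 20), (2, 15), (2, 26), (8, 16), (6, 11), (6, 10), (2, 25), (7, 33), (8, 35), (9, 17), (9, 16), (5, 35), (6, 35), (2, 12), (5, 32), (9, 36), (2, 17), (2, 19), (5, 33), (2, 14), (9, 23), (6, 3), (8, 29), (7, 9), (7, 26), (7, 16), (7, 22), (7, 27), (6, 28), (5, 27), (5, 30), (2, 32), (6, 33), (7, 3), (6, 15), (8, 21), (2, 33), (5, 5), (8, 24), (9, 24),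 (6, 6), (5, 6), (2, 4), (7, 31), (9, 31), (8, 13), (5, 3), (9, 0), (2, 9), (2, 0), (9, 19), (5, 10), (6, 29), (9, 21), (9, 30), (2, 3), (8, 28), (6, 13), (5, 28), (9, 33), (8, 31), (7, 0), (9, 10), (2, 23), (8, 10), (8, 18), (5, 19), (6, 0), (5, 0), (6, 5), (6, 31), (6, 16), (6, 18), (9, 34), (8, 3), (8, 19), (9, 14), (9, 28), (8, 0), (7, 5), (6, 1), (8, 6), (5, 15), (5, 17), (9, 3), (5, 14), (9, 13), (5, 25), (8, 33), (8, 4), (2, 1), (9, 6), (8, 11), (8, 1), (5, 12), (9, 11), (6, 26), (6, 24), (2, 28), (8, 14), (2, 10), (8, 22), (7, 1), (7, 7), (9, 4), (9, 1), (2, 30), (2, 21), (8, 8), (5, 1), (9, 8), (0, 6), (1, 0)]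

/-- The relators, as words of columns. -/
def relWords : List (List ℕ) := [[4, 4, 4, 4, 4, 4, 4], [5, 0, 2], [3, 3, 1, 3, 3, 1, 2, 2, 1, 3, 3, 1, 2, 1, 2, 2, 1, 2, 1, 2, 1, 3, 1, 3, 0, 2, 2, 0, 3, 0, 3, 0, 3, 3, 0, 2, 0], [0, 0], [2, 2, 2, 2, 2], [3, 3, 0, 3, 0, 3, 3, 0, 2, 0, 3, 0, 3, 0, 3, 3, 0, 3, 0, 3, 0, 2, 0, 2, 0, 3, 0, 3, 3, 0, 3, 0, 2, 2, 0, 2, 0], [3, 3, 0, 3, 0, 3, 3, 0, 2, 0, 2, 2, 0, 3, 0, 3, 3, 0, 3, 0, 2, 0, 2, 0, 3, 0, 3, 0, 3, 3, 0, 3, 0, 3, 0, 2, 0], [3, 3, 0, 3, 0, 3, 0, 3, 0, 3, 0, 2, 2, 0, 2, 0, 3, 0, 2, 0, 2, 0, 3, 0, 2, 0, 3, 3, 0, 2, 0, 3, 0, 2, 0, 2, 0], [3, 3, 0, 3, 3, 0, 3, 0, 3, 0, 3, 3, 0, 3, 3, 0, 2, 0, 3, 3, 0, 3, 3, 0, 3, 0, 2, 0, 3, 3, 0, 3, 0, 3, 0, 2, 2, 0], [3, 3, 0, 3, 3, 0, 3, 0, 3, 0, 3,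 3, 0, 3, 3, 0, 2, 2, 0, 3, 0, 3, 0, 3, 3, 0, 2, 0, 3, 0, 3, 3, 0, 3, 3, 0, 2, 0]]

/-- The labels of the relators. -/
def relLabs : List (List ℤ) := [[], [], [], [Int.ofNat 1], [Int.ofNat 0, Int.ofNat 1], [Int.ofNat 0, Int.ofNat 0, Int.ofNat 1], [Int.ofNat 0, Int.ofNat 0, Int.ofNat 0, Int.ofNat 1], [Int.ofNat 0, Int.ofNat 0, Int.ofNat 0, Int.ofNat 0, Int.ofNat 1], [Int.ofNat 0, Int.ofNat 0, Int.ofNat 0, Int.ofNat 0, Int.ofNat 0, Int.ofNat 1], [Int.ofNat 0, Int.ofNat 0, Int.ofNat 0, Int.ofNat 0, Int.ofNat 0, Int.ofNat 0, Int.ofNat 1]]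

/-- The packed table. -/
noncomputable def ptab : PTab where
  k := 6
  n := 466560
  d := 7
  Tmax := 5598723
  w := 15
  B := 32768
  G := 0x100020004000800100020004000
  G2 := 0x1ff03fe07fc0ff81ff03fe07fc0
  t2 := 9
  q := 216
  Q := 0x36006c00d801b0036006c00d8
  tau := fun c i => bget2 (BT.node 3072 (BT.node 1480 (BT.node 684 (BT.node 342 tauT_0 tauT_1) (BT.node 1138 tauT_2 tauT_3)) (BT.node 2276 (BT.node 1822 tauT_4 tauT_5) (BT.node 2618 tauT_6 tauT_7))) (BT.node 4552 (BT.node 3756 (BT.node 3414 tauT_8 tauT_9) (BT.node 4210 tauT_10 tauT_11)) (BT.node 5348 (BT.node 4894 tauT_12 tauT_13) (BT.node 5690 tauT_14 tauT_15)))) 10 9 19 0x7ffff 511 c i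
  stpS := fun c i => bget2 (BT.node 1480 (BT.node 684 (BT.node 342 stpST_0 stpST_1) (BT.node 1138 stpST_2 stpST_3)) (BT.node 2276 (BT.node 1822 stpST_4 stpST_5) (BT.node 2618 stpST_6 stpST_7))) 10 9 23 0x7fffff 511 c i
  cerS := fun c i => bget2 (BT.node 740 (BT.node 342 cerST_0 cerST_1) (BT.node 1138 cerST_2 cerST_3)) 9 10 11 0x7ff 1023 c i
  labS := fun c i => bget2 (BT.node 5918 (BT.node 2733 (BT.node 1366 (BT.node 683 (BT.node 341 labST_0 labST_1) (BT.node 1024 labST_2 labST_3)) (BT.node 2049 (BT.node 1707 labST_4 labST_5) (BT.node 2391 labST_6 labST_7))) (BT.node 4551 (BT.node 3416 (BT.node 3074 labST_8 labST_9) (BT.node 4209 labST_10 labST_11)) (BT.node 5234 (BT.node 4892 labST_12 labST_13) (BT.node 5576 labST_14 labST_15))))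 (BT.node 9103 (BT.node 7285 (BT.node 6601 (BT.node 6259 labST_16 labST_17) (BT.node 6943 labST_18 labST_19)) (BT.node 8419 (BT.node 7626 labST_20 labST_21) (BT.node 8761 labST_22 labST_23))) (BT.node 10470 (BT.node 9786 (BT.node 9444 labST_24 labST_25) (BT.node 10128 labST_26 labST_27)) (BT.node 11153 (BT.node 10811 labST_28 labST_29) (BT.node 11495 labST_30 labST_31))))) 12 7 98 0x3ffffffffffffffffffffffff 127 c i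
  pn := fun i => bget (BT.node 456 pnT_0 pnT_1) 9 19 0x7ffff 511 i
  pc := fun i => bget pcT_0 12 3 0x7 4095 i
  rk := fun i => i
  nrot := 230
  rotH := fun i => rotHT.get i
  rotB := fun i => rotBT.getF i
  rotAN := fun i => rotANT.get i
  hcols := [4]

theorem ptab_ok : ptab.OK where
  hB := by decide +kernel
  hG := by decide +kernel
  hG2 := by decide +kernel
  hw := by decide +kernel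
  ht2 := by decide +kernel
  hq := by decide +kernel
  hQ := by decide +kernel

/-- The table with unpacked labels. -/
noncomputable def tab : LTab := ptab.toLTab

end Cfsg.Agent.Helper9.TCData.U43P0
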